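import Mathlib
import Cfsg.Prelude.Def_LinearParabolics

/-!
Flags in `F^n` and the cosets of their stabilizers in `GL_n(F)`: the general linear group is
transitive on the flags of a given type, the stabilizer of the standard flag is given by vanishing
matrix entries, and the fixed points of an element on the cosets are the stable flags.
-/

set_option autoImplicit false
set_option linter.style.haveILetI false

namespace Cfsg.Agent.S2425L

open Matrix Module
open scoped MatrixGroups

section Std

variable (n : ℕ) (F : Type*) [Field F]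

/-- The standard subspace of vectors supported on the first `d` coordinates. -/
def stdSub (d : ℕ) : Submodule F (Fin n → F) where
  carrier := {v | ∀ i : Fin n, d ≤ i.val → v i = 0}
  add_mem' := fun {a b} ha hb i hi => by simp [ha i hi, hb i hi]
  zero_mem' := fun i _ => rfl
  smul_mem' := fun c v hv i hi => by simp [hv i hi]

variable {n F}

theorem mem_stdSub {d : ℕ} {v : Fin n → F} : v ∈ stdSub n F d ↔ ∀ i : Fin n, d ≤ i.val → v i = 0 :=
  Iff.rfl

theorem stdSub_eq_span (d : ℕ) :
    stdSub n F d = Submodule.span F ((fun i : Fin n => (Pi.single i 1 : Fin n → F)) '' {i | i.val < d}) := by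
  apply le_antisymm
  · intro v hv
    have hsum : v = ∑ i : Fin n, v i • (Pi.single i 1 : Fin n → F) := by
      ext j
      simp [Finset.sum_apply, Pi.single_apply]
    rw [hsum]
    refine Submodule.sum_mem _ fun i _ => ?_
    by_cases hi : i.val < d
    · exact Submodule.smul_mem _ _ (Submodule.subset_span ⟨i, hi, rfl⟩)
    · rw [hv i (not_lt.1 hi), zero_smul]
      exact Submodule.zero_mem _
  · rw [Submodule.span_le]
    rintro _ ⟨i, hi, rfl⟩ j hj
    have : j ≠ i := by
      intro h; subst h
      exact absurd hi (not_lt.2 hj)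
    simp [this]

/-- The span of the first `d` vectors of a linearly independent family has dimension `d`. -/
theorem finrank_span_initial {V : Type*} [AddCommGroup V] [Module F V] {b : Fin n → V}
    (hb : LinearIndependent F b) {d : ℕ} (hd : d ≤ n) :
    finrank F (Submodule.span F (b '' {i | i.val < d})) = d := by
  classical
  have hli : LinearIndependent F (fun i : {i : Fin n // i.val < d} => b i.1) :=
    hb.comp _ Subtype.val_injective
  have hrange : Set.range (fun i : {i : Fin n // i.val < d} => b i.1) = b '' {i | i.val < d} := by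
    ext v
    constructor
    · rintro ⟨⟨i, hi⟩, rfl⟩; exact ⟨i, hi, rfl⟩
    · rintro ⟨i, hi, rfl⟩; exact ⟨⟨i, hi⟩, rfl⟩
  rw [← hrange, finrank_span_eq_card hli, Fintype.card_subtype, Fin.card_filter_val_lt,
    min_eq_right hd]

theorem finrank_stdSub {d : ℕ} (hd : d ≤ n) : finrank F (stdSub n F d) = d := by
  rw [stdSub_eq_span]
  exact finrank_span_initial (Pi.linearIndependent_single_one (Fin n) F) hd

end Std

section Action

variable {n : ℕ} {F : Type*} [Field F]

/-- The linear automorphism of `F^n` defined by an invertible matrix. -/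
noncomputable def glEquiv (g : GL (Fin n) F) : (Fin n → F) ≃ₗ[F] (Fin n → F) :=
  LinearEquiv.ofLinearMap (Matrix.toLin' (g : Matrix (Fin n) (Fin n) F))
    (Matrix.toLin' ((g⁻¹ : GL (Fin n) F) : Matrix (Fin n) (Fin n) F))
    (by rw [← Matrix.toLin'_mul, ← Units.val_mul, mul_inv_cancel, Units.val_one, Matrix.toLin'_one])
    (by rw [← Matrix.toLin'_mul, ← Units.val_mul, inv_mul_cancel, Units.val_one, Matrix.toLin'_one])

theorem glEquiv_apply (g : GL (Fin n) F) (v : Fin n → F) :
    glEquiv g v = (g : Matrix (Fin n) (Fin n) F) *ᵥ v := by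
  simp [glEquiv, Matrix.toLin'_apply]

theorem glEquiv_coe (g : GL (Fin n) F) :
    (glEquiv g : (Fin n → F) →ₗ[F] (Fin n → F)) = Matrix.toLin' (g : Matrix (Fin n) (Fin n) F) := rfl

theorem glEquiv_one : glEquiv (1 : GL (Fin n) F) = LinearEquiv.refl F (Fin n → F) := by
  ext v
  simp [glEquiv_apply]

theorem glEquiv_mul (g h : GL (Fin n) F) : glEquiv (g * h) = (glEquiv h).trans (glEquiv g) := by
  ext v
  simp [glEquiv_apply, Matrix.mulVec_mulVec]

/-- The image of a subspace under an invertible matrix. -/
noncomputable def actSub (g : GL (Fin n) F) (W : Submodule F (Fin n → F)) :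
    Submodule F (Fin n → F) :=
  W.map (glEquiv g : (Fin n → F) →ₗ[F] (Fin n → F))

theorem actSub_one (W : Submodule F (Fin n → F)) : actSub 1 W = W := by
  rw [actSub, glEquiv_one]
  exact Submodule.map_id W

theorem actSub_mul (g h : GL (Fin n) F) (W : Submodule F (Fin n → F)) :
    actSub (g * h) W = actSub g (actSub h W) := by
  rw [actSub, actSub, actSub, glEquiv_mul, ← Submodule.map_comp]
  rfl

theorem finrank_actSub (g : GL (Fin n) F) (W : Submodule F (Fin n → F)) :
    finrank F (actSub g W) = finrank F W :=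
  LinearEquiv.finrank_map_eq (glEquiv g) W

theorem actSub_mono (g : GL (Fin n) F) {W W' : Submodule F (Fin n → F)} (h : W ≤ W') :
    actSub g W ≤ actSub g W' := Submodule.map_mono h

theorem actSub_inv_actSub (g : GL (Fin n) F) (W : Submodule F (Fin n → F)) :
    actSub g⁻¹ (actSub g W) = W := by
  rw [← actSub_mul, inv_mul_cancel, actSub_one]

theorem actSub_injective (g : GL (Fin n) F) : Function.Injective (actSub (n := n) (F := F) g) := by
  intro W W' h
  have := congrArg (actSub g⁻¹) h
  rwa [actSub_inv_actSub, actSub_inv_actSub] at this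

variable (n F) in
/-- Sets of subspaces of `F^n`, with the natural action of `GL_n(F)`. -/
abbrev SubSet : Type _ := Set (Submodule F (Fin n → F))

noncomputable instance : MulAction (GL (Fin n) F) (SubSet n F) where
  smul g S := actSub g '' S
  one_smul S := by
    let S' : Set (Submodule F (Fin n → F)) := S
    change actSub 1 '' S' = S'
    have : actSub (1 : GL (Fin n) F) = id := funext actSub_one
    rw [this, Set.image_id]
  mul_smul g h S := by
    let S' : Set (Submodule F (Fin n → F)) := S
    change actSub (g * h) '' S' = actSub g '' (actSub h '' S')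
    rw [Set.image_image]
    exact Set.image_congr fun W _ => actSub_mul g h W

theorem smul_subSet_def (g : GL (Fin n) F) (S : SubSet n F) :
    g • S = (actSub g '' (S : Set (Submodule F (Fin n → F))) : Set _) := rfl

/-- A subspace is mapped into itself iff it is mapped onto itself. -/
theorem actSub_eq_iff_le (g : GL (Fin n) F) (W : Submodule F (Fin n → F)) :
    actSub g W = W ↔ actSub g W ≤ W := by
  constructor
  · intro h; rw [h]
  · intro h
    exact Submodule.eq_of_le_of_finrank_eq h (finrank_actSub g W)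

theorem actSub_le_iff_invt (g : GL (Fin n) F) (W : Submodule F (Fin n → F)) :
    actSub g W ≤ W ↔
      W ∈ Module.End.invtSubmodule (Matrix.toLin' (g : Matrix (Fin n) (Fin n) F)) := by
  rw [Module.End.mem_invtSubmodule_iff_map_le]
  rfl

/-- The standard flag of type `D`. -/
def stdFlag (n : ℕ) (F : Type*) [Field F] (D : Finset ℕ) : SubSet n F :=
  stdSub n F '' (D : Set ℕ)

theorem actSub_stdSub_le_iff (g : GL (Fin n) F) (d : ℕ) :
    actSub g (stdSub n F d) ≤ stdSub n F d ↔
      ∀ i j : Fin n, j.val < d → d ≤ i.val → (g : Matrix (Fin n) (Fin n) F) i j = 0 := by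
  constructor
  · intro h i j hj hi
    have hmem : (Pi.single j 1 : Fin n → F) ∈ stdSub n F d := by
      intro k hk
      have : k ≠ j := by
        intro e; subst e; exact absurd hj (not_lt.2 hk)
      simp [this]
    have := h (Submodule.mem_map_of_mem hmem) i hi
    rw [LinearEquiv.coe_coe, glEquiv_apply, Matrix.mulVec_single_one] at this
    exact this
  · rintro h _ ⟨v, hv, rfl⟩ i hi
    rw [LinearEquiv.coe_coe, glEquiv_apply, Matrix.mulVec, dotProduct]
    refine Finset.sum_eq_zero fun j _ => ?_
    by_cases hj : j.val < d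
    · rw [h i j hj hi, zero_mul]
    · rw [hv j (not_lt.1 hj), mul_zero]

end Action

section Adapted

variable {F : Type*} [Field F]

/-- In a chain of subspaces, the members of dimension exceeding `m` have a least element. -/
theorem exists_least_of_finrank_gt {V : Type*} [AddCommGroup V] [Module F V]
    [FiniteDimensional F V] {S : Set (Submodule F V)} (hS : IsChain (· ≤ ·) S) (m : ℕ)
    (hne : ∃ W ∈ S, m < finrank F W) :
    ∃ W₀ ∈ S, m < finrank F W₀ ∧ ∀ W ∈ S, m < finrank F W → W₀ ≤ W := by
  obtain ⟨W₁, hW₁⟩ := hne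
  obtain ⟨W₀, hW₀, hmin⟩ := (measure (fun W : Submodule F V => finrank F W)).wf.has_min
    {W | W ∈ S ∧ m < finrank F W} ⟨W₁, hW₁⟩
  refine ⟨W₀, hW₀.1, hW₀.2, fun W hW hm => ?_⟩
  by_cases hWW : W₀ = W
  · rw [hWW]
  · rcases hS hW₀.1 hW hWW with h | h
    · exact h
    · have h1 : finrank F W ≤ finrank F W₀ := Submodule.finrank_mono h
      have h2 : ¬ finrank F W < finrank F W₀ := hmin W ⟨hW, hm⟩
      have h3 : finrank F W = finrank F W₀ := by omega
      rw [Submodule.eq_of_le_of_finrank_eq h h3]

/-- A chain of subspaces has an adapted linearly independent family. -/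
theorem exists_adapted_family {V : Type*} [AddCommGroup V] [Module F V]
    [FiniteDimensional F V] {S : Set (Submodule F V)} (hS : IsChain (· ≤ ·) S) :
    ∀ m : ℕ, m ≤ finrank F V → ∃ b : Fin m → V, LinearIndependent F b ∧
      ∀ i : Fin m, ∀ W ∈ S, i.val < finrank F W → b i ∈ W := by
  intro m
  induction m with
  | zero =>
    intro _
    exact ⟨Fin.elim0, linearIndependent_empty_type, fun i => i.elim0⟩
  | succ m ih =>
    intro hm
    obtain ⟨b, hb, hbS⟩ := ih (by omega)
    have hspan : finrank F (Submodule.span F (Set.range b)) = m := by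
      rw [finrank_span_eq_card hb, Fintype.card_fin]
    -- find the new vector
    obtain ⟨v, hv, hvS⟩ : ∃ v : V, v ∉ Submodule.span F (Set.range b) ∧
        ∀ W ∈ S, m < finrank F W → v ∈ W := by
      by_cases hne : ∃ W ∈ S, m < finrank F W
      · obtain ⟨W₀, _, hm₀, hleast⟩ := exists_least_of_finrank_gt hS m hne
        have hnle : ¬ W₀ ≤ Submodule.span F (Set.range b) := by
          intro hle
          have := Submodule.finrank_mono hle
          omega
        obtain ⟨v, hvW, hvn⟩ := SetLike.not_le_iff_exists.1 hnle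
        exact ⟨v, hvn, fun W hW hmW => hleast W hW hmW hvW⟩
      · have hlt : Submodule.span F (Set.range b) < ⊤ := by
          rw [lt_top_iff_ne_top]
          intro htop
          rw [htop, finrank_top] at hspan
          omega
        obtain ⟨v, _, hvn⟩ := SetLike.exists_of_lt hlt
        exact ⟨v, hvn, fun W hW hmW => absurd ⟨W, hW, hmW⟩ hne⟩
    refine ⟨Fin.snoc b v, linearIndependent_finSnoc.2 ⟨hb, hv⟩, fun i => ?_⟩
    refine Fin.lastCases ?_ (fun i => ?_) i
    · intro W hW hmW
      rw [Fin.snoc_last]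
      exact hvS W hW (by simpa using hmW)
    · intro W hW hmW
      rw [Fin.snoc_castSucc]
      exact hbS i W hW (by simpa using hmW)

variable {n : ℕ}

/-- The invertible matrix of a linear automorphism of `F^n`. -/
noncomputable def glOfEquiv (φ : (Fin n → F) ≃ₗ[F] (Fin n → F)) : GL (Fin n) F :=
  ⟨LinearMap.toMatrix' (φ : (Fin n → F) →ₗ[F] (Fin n → F)),
    LinearMap.toMatrix' (φ.symm : (Fin n → F) →ₗ[F] (Fin n → F)),
    by rw [← LinearMap.toMatrix'_comp]; simp,
    by rw [← LinearMap.toMatrix'_comp]; simp⟩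

theorem glEquiv_glOfEquiv (φ : (Fin n → F) ≃ₗ[F] (Fin n → F)) : glEquiv (glOfEquiv φ) = φ := by
  ext v : 1
  rw [glEquiv_apply]
  change (LinearMap.toMatrix' (φ : (Fin n → F) →ₗ[F] (Fin n → F))) *ᵥ v = φ v
  rw [← Matrix.toLin'_apply, Matrix.toLin'_toMatrix']
  rfl

/-- Every chain of subspaces of `F^n` is the image of standard subspaces under one matrix. -/
theorem exists_adapted_gl {S : Set (Submodule F (Fin n → F))} (hS : IsChain (· ≤ ·) S) :
    ∃ g : GL (Fin n) F, ∀ W ∈ S, actSub g (stdSub n F (finrank F W)) = W := by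
  classical
  obtain ⟨b, hb, hbS⟩ := exists_adapted_family hS n (by simp)
  let B : Basis (Fin n) F (Fin n → F) := basisOfLinearIndependentOfCardEqFinrank' b hb (by simp)
  have hB : ∀ i, B i = b i := fun i => by
    simp [B]
  let φ : (Fin n → F) ≃ₗ[F] (Fin n → F) := (Pi.basisFun F (Fin n)).equiv B (Equiv.refl _)
  have hφ : ∀ i : Fin n, φ (Pi.single i 1) = b i := by
    intro i
    have := (Pi.basisFun F (Fin n)).equiv_apply i B (Equiv.refl _)
    rw [Pi.basisFun_apply] at this
    rw [this, Equiv.refl_apply, hB]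
  refine ⟨glOfEquiv φ, fun W hW => ?_⟩
  have hd : finrank F W ≤ n := by
    have := Submodule.finrank_le W
    simpa using this
  have hmap : actSub (glOfEquiv φ) (stdSub n F (finrank F W)) =
      Submodule.span F (b '' {i | i.val < finrank F W}) := by
    rw [actSub, glEquiv_glOfEquiv, stdSub_eq_span, Submodule.map_span, Set.image_image]
    congr 1
    exact Set.image_congr fun i _ => hφ i
  rw [hmap]
  refine Submodule.eq_of_le_of_finrank_eq ?_ (finrank_span_initial hb hd)
  rw [Submodule.span_le]
  rintro _ ⟨i, hi, rfl⟩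
  exact hbS i W hW hi

end Adapted

section Orbit

variable {n : ℕ} {F : Type*} [Field F]

theorem stdSub_mono {d d' : ℕ} (h : d ≤ d') : stdSub n F d ≤ stdSub n F d' :=
  fun _ hv i hi => hv i (h.trans hi)

theorem mem_stdFlag {D : Finset ℕ} {W : Submodule F (Fin n → F)} :
    W ∈ (stdFlag n F D : Set (Submodule F (Fin n → F))) ↔ ∃ d ∈ D, stdSub n F d = W := by
  simp [stdFlag]

theorem mem_smul_subSet {g : GL (Fin n) F} {S : SubSet n F} {W : Submodule F (Fin n → F)} :
    W ∈ ((g • S : SubSet n F) : Set (Submodule F (Fin n → F))) ↔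
      ∃ W' ∈ (S : Set (Submodule F (Fin n → F))), actSub g W' = W := Iff.rfl

theorem subSet_ext {S S' : SubSet n F}
    (h : ∀ W, W ∈ (S : Set (Submodule F (Fin n → F))) ↔ W ∈ (S' : Set (Submodule F (Fin n → F)))) :
    S = S' := Set.ext h

/-- The stabilizer of the standard flag of type `D` in terms of matrix entries. -/
theorem mem_stabilizer_stdFlag {D : Finset ℕ} (hD : ∀ d ∈ D, d ≤ n) (g : GL (Fin n) F) :
    g ∈ MulAction.stabilizer (GL (Fin n) F) (stdFlag n F D) ↔
      ∀ d ∈ D, ∀ i j : Fin n, j.val < d → d ≤ i.val →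
        (g : Matrix (Fin n) (Fin n) F) i j = 0 := by
  rw [MulAction.mem_stabilizer_iff]
  constructor
  · intro h d hd
    have hmem : actSub g (stdSub n F d) ∈ (stdFlag n F D : Set (Submodule F (Fin n → F))) := by
      rw [← h]
      exact mem_smul_subSet.2 ⟨_, mem_stdFlag.2 ⟨d, hd, rfl⟩, rfl⟩
    obtain ⟨d', hd', he⟩ := mem_stdFlag.1 hmem
    have hdd : d' = d := by
      have := congrArg (fun W : Submodule F (Fin n → F) => finrank F W) he
      simp only [finrank_actSub, finrank_stdSub (hD d hd), finrank_stdSub (hD d' hd')] at this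
      exact this
    rw [hdd] at he
    exact (actSub_stdSub_le_iff g d).1 he.ge
  · intro h
    apply subSet_ext
    intro W
    rw [mem_smul_subSet]
    constructor
    · rintro ⟨W', hW', rfl⟩
      obtain ⟨d, hd, rfl⟩ := mem_stdFlag.1 hW'
      rw [(actSub_eq_iff_le g _).2 ((actSub_stdSub_le_iff g d).2 (h d hd))]
      exact hW'
    · intro hW
      obtain ⟨d, hd, rfl⟩ := mem_stdFlag.1 hW
      exact ⟨_, hW, (actSub_eq_iff_le g _).2 ((actSub_stdSub_le_iff g d).2 (h d hd))⟩

/-- The flags of type `D`: chains of subspaces with dimension set `D`. -/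
def IsFlag (D : Finset ℕ) (S : SubSet n F) : Prop :=
  IsChain (· ≤ ·) (S : Set (Submodule F (Fin n → F))) ∧
    (fun W : Submodule F (Fin n → F) => finrank F W) '' (S : Set (Submodule F (Fin n → F))) =
      (D : Set ℕ)

theorem mem_orbit_stdFlag {D : Finset ℕ} (hD : ∀ d ∈ D, d ≤ n) (S : SubSet n F) :
    S ∈ MulAction.orbit (GL (Fin n) F) (stdFlag n F D) ↔ IsFlag D S := by
  rw [MulAction.mem_orbit_iff]
  constructor
  · rintro ⟨g, rfl⟩
    constructor
    · rintro _ ⟨W₁, hW₁, rfl⟩ _ ⟨W₂, hW₂, rfl⟩ _
      obtain ⟨d₁, _, rfl⟩ := mem_stdFlag.1 hW₁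
      obtain ⟨d₂, _, rfl⟩ := mem_stdFlag.1 hW₂
      rcases le_total d₁ d₂ with h | h
      · exact Or.inl (actSub_mono g (stdSub_mono h))
      · exact Or.inr (actSub_mono g (stdSub_mono h))
    · ext d
      simp only [Set.mem_image, Finset.mem_coe]
      constructor
      · rintro ⟨_, ⟨W, hW, rfl⟩, rfl⟩
        obtain ⟨d', hd', rfl⟩ := mem_stdFlag.1 hW
        rw [finrank_actSub, finrank_stdSub (hD d' hd')]
        exact hd'
      · intro hd
        refine ⟨actSub g (stdSub n F d), mem_smul_subSet.2 ⟨_, mem_stdFlag.2 ⟨d, hd, rfl⟩, rfl⟩, ?_⟩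
        rw [finrank_actSub, finrank_stdSub (hD d hd)]
  · rintro ⟨hchain, hdims⟩
    obtain ⟨g, hg⟩ := exists_adapted_gl hchain
    refine ⟨g, ?_⟩
    apply subSet_ext
    intro W
    rw [mem_smul_subSet]
    constructor
    · rintro ⟨W', hW', rfl⟩
      obtain ⟨d, hd, rfl⟩ := mem_stdFlag.1 hW'
      have : d ∈ (fun W : Submodule F (Fin n → F) => finrank F W) ''
          (S : Set (Submodule F (Fin n → F))) := by
        rw [hdims]; exact hd
      obtain ⟨W₀, hW₀, rfl⟩ := this
      rw [hg W₀ hW₀]
      exact hW₀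
    · intro hW
      refine ⟨stdSub n F (finrank F W), mem_stdFlag.2 ⟨finrank F W, ?_, rfl⟩, hg W hW⟩
      have : finrank F W ∈ (fun W : Submodule F (Fin n → F) => finrank F W) ''
          (S : Set (Submodule F (Fin n → F))) := ⟨W, hW, rfl⟩
      rw [hdims] at this
      exact this

/-- A flag is fixed by `x` iff all its members are invariant. -/
theorem smul_flag_eq_iff {D : Finset ℕ} {S : SubSet n F} (hS : IsFlag D S) (x : GL (Fin n) F) :
    x • S = S ↔ ∀ W ∈ (S : Set (Submodule F (Fin n → F))),
      W ∈ Module.End.invtSubmodule (Matrix.toLin' (x : Matrix (Fin n) (Fin n) F)) := by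
  constructor
  · intro h W hW
    rw [← actSub_le_iff_invt]
    have hmem : actSub x W ∈ (S : Set (Submodule F (Fin n → F))) := by
      rw [← h]
      exact mem_smul_subSet.2 ⟨W, hW, rfl⟩
    by_cases he : actSub x W = W
    · rw [he]
    · rcases hS.1 hmem hW he with h1 | h1
      · exact h1
      · exact (Submodule.eq_of_le_of_finrank_eq h1 (finrank_actSub x W).symm).ge
  · intro h
    have hfix : ∀ W ∈ (S : Set (Submodule F (Fin n → F))), actSub x W = W := fun W hW =>
      (actSub_eq_iff_le x W).2 ((actSub_le_iff_invt x W).2 (h W hW))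
    apply subSet_ext
    intro W
    rw [mem_smul_subSet]
    constructor
    · rintro ⟨W', hW', rfl⟩
      rw [hfix W' hW']; exact hW'
    · intro hW
      exact ⟨W, hW, hfix W hW⟩

/-- The number of fixed points of `x` on the cosets of a flag stabilizer is the number of
`x`-stable flags. -/
theorem card_fixedBy_flags {D : Finset ℕ} (hD : ∀ d ∈ D, d ≤ n) (H : Subgroup (GL (Fin n) F))
    (hH : ∀ g : GL (Fin n) F, g ∈ H ↔ ∀ d ∈ D, ∀ i j : Fin n, j.val < d → d ≤ i.val →
      (g : Matrix (Fin n) (Fin n) F) i j = 0) (x : GL (Fin n) F) :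
    Nat.card (MulAction.fixedBy (GL (Fin n) F ⧸ H) x) =
      Nat.card {S : SubSet n F // IsFlag D S ∧ ∀ W ∈ (S : Set (Submodule F (Fin n → F))),
        W ∈ Module.End.invtSubmodule (Matrix.toLin' (x : Matrix (Fin n) (Fin n) F))} := by
  have hHeq : H = MulAction.stabilizer (GL (Fin n) F) (stdFlag n F D) := by
    ext g
    rw [hH, mem_stabilizer_stdFlag hD]
  subst hHeq
  let φ := MulAction.orbitEquivQuotientStabilizer (GL (Fin n) F) (stdFlag n F D)
  have hφ : ∀ g : GL (Fin n) F,
      ((φ.symm (g : GL (Fin n) F ⧸ MulAction.stabilizer _ (stdFlag n F D)) :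
      MulAction.orbit (GL (Fin n) F) (stdFlag n F D)) : SubSet n F) = g • stdFlag n F D :=
    fun g => MulAction.orbitEquivQuotientStabilizer_symm_apply (GL (Fin n) F) (stdFlag n F D) g
  have key : ∀ q : GL (Fin n) F ⧸ MulAction.stabilizer (GL (Fin n) F) (stdFlag n F D),
      q ∈ MulAction.fixedBy
          (GL (Fin n) F ⧸ MulAction.stabilizer (GL (Fin n) F) (stdFlag n F D)) x ↔
        x • ((φ.symm q : MulAction.orbit (GL (Fin n) F) (stdFlag n F D)) : SubSet n F) =
          (φ.symm q : _) := by
    intro q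
    induction q using QuotientGroup.induction_on with
    | H g =>
      rw [hφ, MulAction.mem_fixedBy, MulAction.Quotient.smul_mk, QuotientGroup.eq,
        MulAction.mem_stabilizer_iff, ← mul_smul, smul_eq_mul]
      constructor
      · intro h
        have := congrArg (fun S => (x * g) • S) h
        simp only [← mul_smul] at this
        rw [mul_inv_cancel_left] at this
        exact this.symm
      · intro h
        rw [mul_smul, ← h, ← mul_smul, inv_mul_cancel, one_smul]
  rw [Nat.card_congr (φ.symm.subtypeEquiv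
    (q := fun y : MulAction.orbit (GL (Fin n) F) (stdFlag n F D) => x • (y : SubSet n F) = y) key)]
  refine Nat.card_congr ?_
  refine (Equiv.subtypeSubtypeEquivSubtypeInter
    (fun S : SubSet n F => S ∈ MulAction.orbit (GL (Fin n) F) (stdFlag n F D))
    (fun S : SubSet n F => x • S = S)).trans (Equiv.subtypeEquivRight ?_)
  intro S
  rw [mem_orbit_stdFlag hD]
  constructor
  · rintro ⟨h1, h2⟩
    exact ⟨h1, (smul_flag_eq_iff h1 x).1 h2⟩
  · rintro ⟨h1, h2⟩
    exact ⟨h1, (smul_flag_eq_iff h1 x).2 h2⟩

end Orbit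

end Cfsg.Agent.S2425L
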