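import Mathlib

/-!
General facts on the Moebius function of a locally finite partial order (Mathlib's
`IncidenceAlgebra.mu`): invariance under order isomorphisms and convex subtypes,
Philip Hall's theorem (alternating count of chains), Weisner's theorem.
-/

set_option autoImplicit false

namespace Cfsg.Agent.S2425L

open Finset IncidenceAlgebra

section Iso

variable {α β : Type*} [PartialOrder α] [PartialOrder β] [LocallyFiniteOrder α]
  [LocallyFiniteOrder β] [DecidableEq α] [DecidableEq β]

/-- The Moebius function is invariant under order isomorphisms. -/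
theorem mu_orderIso (e : α ≃o β) (a b : α) : mu ℤ (e a) (e b) = mu ℤ a b := by
  suffices H : ∀ k : ℕ, ∀ b : α, (Ico a b).card = k → mu ℤ (e a) (e b) = mu ℤ a b from H _ b rfl
  intro k
  induction k using Nat.strong_induction_on with
  | _ k ih =>
    intro b hk
    rw [mu_apply, mu_apply (a := a)]
    by_cases hab : a = b
    · subst hab; simp
    · have hab' : e a ≠ e b := fun h => hab (e.injective h)
      rw [if_neg hab, if_neg hab']
      congr 1
      symm
      refine Finset.sum_bij (fun x _ => e x) ?_ ?_ ?_ ?_
      · intro x hx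
        rw [mem_Ico] at hx ⊢
        exact ⟨e.le_iff_le.2 hx.1, e.lt_iff_lt.2 hx.2⟩
      · intro x _ y _ h; exact e.injective h
      · intro y hy
        rw [mem_Ico] at hy
        refine ⟨e.symm y, ?_, by simp⟩
        rw [mem_Ico]
        constructor
        · rw [← e.le_iff_le]; simpa using hy.1
        · rw [← e.lt_iff_lt]; simpa using hy.2
      · intro x hx
        have hx' := mem_Ico.1 hx
        symm
        refine ih (Ico a x).card ?_ x rfl
        rw [← hk]
        refine card_lt_card ?_
        refine ⟨fun y hy => ?_, fun h => ?_⟩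
        · rw [mem_Ico] at hy ⊢
          exact ⟨hy.1, hy.2.trans hx'.2⟩
        · have := h hx
          rw [mem_Ico] at this
          exact lt_irrefl _ this.2

end Iso

section Sub

variable {α : Type*} [PartialOrder α] [LocallyFiniteOrder α] [DecidableEq α]

/-- The Moebius function of a convex subtype is the restriction of the Moebius function. -/
theorem mu_subtype (p : α → Prop) [DecidablePred p] [LocallyFiniteOrder (Subtype p)]
    (hp : ∀ ⦃a b x⦄, a ≤ x → x ≤ b → p a → p b → p x) (a b : Subtype p) :
    mu ℤ a b = mu ℤ (a : α) (b : α) := by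
  obtain rfl : ‹LocallyFiniteOrder (Subtype p)› = Subtype.instLocallyFiniteOrder p :=
    Subsingleton.elim _ _
  suffices H : ∀ k : ℕ, ∀ b : Subtype p, (Ico (a : α) (b : α)).card = k →
      mu ℤ a b = mu ℤ (a : α) (b : α) from H _ b rfl
  intro k
  induction k using Nat.strong_induction_on with
  | _ k ih =>
    intro b hk
    rw [mu_apply, mu_apply (a := (a : α))]
    by_cases hab : a = b
    · subst hab; simp
    · have hab' : (a : α) ≠ (b : α) := fun h => hab (Subtype.ext h)
      rw [if_neg hab, if_neg hab']
      congr 1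
      have hmap : (Ico a b).map (Function.Embedding.subtype p) = Ico (a : α) (b : α) :=
        Finset.map_subtype_embedding_Ico p a b hp
      rw [← hmap, Finset.sum_map]
      refine Finset.sum_congr rfl fun x hx => ?_
      have hx' := mem_Ico.1 hx
      refine ih (Ico (a : α) (x : α)).card ?_ x rfl
      rw [← hk]
      refine card_lt_card ?_
      refine ⟨fun y hy => ?_, fun h => ?_⟩
      · rw [mem_Ico] at hy ⊢
        exact ⟨hy.1, hy.2.trans hx'.2⟩
      · have hxm : (x : α) ∈ Ico (a : α) (b : α) := by
          rw [mem_Ico]; exact ⟨hx'.1, hx'.2⟩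
        have := h hxm
        rw [mem_Ico] at this
        exact lt_irrefl _ this.2

end Sub

section Hall

variable {α : Type*} [PartialOrder α] [LocallyFiniteOrder α] [DecidableEq α]

/-- The set of chains contained in the open interval `(a, b)`. -/
noncomputable def chainsIoo (a b : α) : Finset (Finset α) :=
  open Classical in (Ioo a b).powerset.filter fun c => IsChain (· ≤ ·) (c : Set α)

omit [DecidableEq α] in
theorem mem_chainsIoo {a b : α} {c : Finset α} :
    c ∈ chainsIoo a b ↔ c ⊆ Ioo a b ∧ IsChain (· ≤ ·) (c : Set α) := by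
  classical
  simp [chainsIoo]

omit [LocallyFiniteOrder α] in
/-- A nonempty finite chain has exactly one least element. -/
theorem exists_least_of_chain {c : Finset α} (hc : IsChain (· ≤ ·) (c : Set α)) (hne : c.Nonempty) :
    ∃ w ∈ c, ∀ y ∈ c, w ≤ y := by
  obtain ⟨w, hw, hmin⟩ := c.exists_minimal hne
  refine ⟨w, hw, fun y hy => ?_⟩
  by_cases hwy : w = y
  · exact hwy.le
  · rcases hc (Finset.mem_coe.2 hw) (Finset.mem_coe.2 hy) hwy with h | h
    · exact h
    · exact hmin hy h

/-- Philip Hall's theorem: the alternating count of the chains in an open interval is minus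
the Moebius function. -/
theorem hall (a b : α) (hab : a < b) :
    ∑ c ∈ chainsIoo a b, (-1 : ℤ) ^ c.card = - mu ℤ a b := by
  classical
  suffices H : ∀ k : ℕ, ∀ a : α, a < b → (Ioo a b).card = k →
      ∑ c ∈ chainsIoo a b, (-1 : ℤ) ^ c.card = - mu ℤ a b from H _ a hab rfl
  intro k
  induction k using Nat.strong_induction_on with
  | _ k ih =>
    intro a hab hk
    -- the recursion for mu
    have hmu : mu ℤ a b = -∑ x ∈ Ioc a b, mu ℤ x b := mu_eq_neg_sum_Ioc_of_ne hab.ne
    have hIoc : Ioc a b = insert b (Ioo a b) := by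
      ext x; simp only [mem_Ioc, mem_insert, mem_Ioo]
      constructor
      · rintro ⟨h1, h2⟩
        rcases h2.eq_or_lt with h | h
        · exact Or.inl h
        · exact Or.inr ⟨h1, h⟩
      · rintro (h | h)
        · subst h; exact ⟨hab, le_rfl⟩
        · exact ⟨h.1, h.2.le⟩
    rw [hmu, hIoc, Finset.sum_insert (by simp), mu_self, neg_neg]
    -- the recursion for chains
    have hrec : ∑ c ∈ chainsIoo a b, (-1 : ℤ) ^ c.card =
        1 + ∑ w ∈ Ioo a b, ∑ c ∈ chainsIoo w b, (-1 : ℤ) ^ (c.card + 1) := by
      have h1 : ∀ c ∈ chainsIoo a b, (-1 : ℤ) ^ c.card =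
          (if c = ∅ then 1 else 0) +
            ∑ w ∈ Ioo a b, if (w ∈ c ∧ ∀ y ∈ c, w ≤ y) then (-1 : ℤ) ^ c.card else 0 := by
        intro c hc
        rw [mem_chainsIoo] at hc
        by_cases hce : c = ∅
        · subst hce; simp
        · rw [if_neg hce, zero_add]
          obtain ⟨w, hw, hmin⟩ := exists_least_of_chain hc.2 (Finset.nonempty_iff_ne_empty.2 hce)
          rw [Finset.sum_eq_single w]
          · rw [if_pos ⟨hw, hmin⟩]
          · intro w' _ hne
            rw [if_neg]
            rintro ⟨hw', hmin'⟩
            exact hne (le_antisymm (hmin' w hw) (hmin w' hw'))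
          · intro h; exact absurd (hc.1 hw) h
      rw [Finset.sum_congr rfl h1, Finset.sum_add_distrib]
      congr 1
      · rw [Finset.sum_ite_eq']
        rw [if_pos]
        rw [mem_chainsIoo]
        exact ⟨by simp, by simp⟩
      · rw [Finset.sum_comm]
        refine Finset.sum_congr rfl fun w hw => ?_
        rw [← Finset.sum_filter]
        have hw' := mem_Ioo.1 hw
        refine Finset.sum_bij' (fun c _ => c.erase w) (fun c _ => insert w c) ?_ ?_ ?_ ?_ ?_
        · intro c hc
          rw [Finset.mem_filter, mem_chainsIoo] at hc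
          rw [mem_chainsIoo]
          refine ⟨fun y hy => ?_, ?_⟩
          · rw [Finset.mem_erase] at hy
            rw [mem_Ioo]
            refine ⟨lt_of_le_of_ne (hc.2.2 y hy.2) (Ne.symm hy.1), (mem_Ioo.1 (hc.1.1 hy.2)).2⟩
          · exact hc.1.2.mono (by simp)
        · intro c hc
          rw [mem_chainsIoo] at hc
          rw [Finset.mem_filter, mem_chainsIoo]
          refine ⟨⟨fun y hy => ?_, ?_⟩, by simp, fun y hy => ?_⟩
          · rw [Finset.mem_insert] at hy
            rcases hy with rfl | hy
            · exact hw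
            · have := mem_Ioo.1 (hc.1 hy)
              rw [mem_Ioo]; exact ⟨hw'.1.trans this.1, this.2⟩
          · rw [Finset.coe_insert]
            refine hc.2.insert fun y hy _ => Or.inl ?_
            exact (mem_Ioo.1 (hc.1 (Finset.mem_coe.1 hy))).1.le
          · rw [Finset.mem_insert] at hy
            rcases hy with rfl | hy
            · exact le_rfl
            · exact (mem_Ioo.1 (hc.1 hy)).1.le
        · intro c hc
          rw [Finset.mem_filter] at hc
          exact Finset.insert_erase hc.2.1
        · intro c hc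
          rw [mem_chainsIoo] at hc
          refine Finset.erase_insert fun h => ?_
          exact lt_irrefl _ (mem_Ioo.1 (hc.1 h)).1
        · intro c hc
          rw [Finset.mem_filter] at hc
          rw [Finset.card_erase_of_mem hc.2.1]
          have : 0 < c.card := Finset.card_pos.2 ⟨w, hc.2.1⟩
          rw [Nat.sub_add_cancel this]
    rw [hrec]
    congr 1
    refine Finset.sum_congr rfl fun w hw => ?_
    have hw' := mem_Ioo.1 hw
    have hlt : (Ioo w b).card < k := by
      rw [← hk]
      refine card_lt_card ⟨fun y hy => ?_, fun h => ?_⟩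
      · rw [mem_Ioo] at hy ⊢
        exact ⟨hw'.1.trans hy.1, hy.2⟩
      · have := h hw
        rw [mem_Ioo] at this
        exact lt_irrefl _ this.1
    have := ih _ hlt w hw'.2 rfl
    simp only [pow_succ, mul_neg, mul_one, Finset.sum_neg_distrib]
    rw [this, neg_neg]

end Hall

section Weisner

variable {α : Type*} [Lattice α] [BoundedOrder α] [Fintype α] [LocallyFiniteOrder α] [DecidableEq α]

/-- Weisner's theorem: for `a ≠ ⊥` in a finite lattice, the sum of `μ(⊥, x)` over the `x` with
`x ⊔ a = ⊤` vanishes. -/
theorem weisner (a : α) (ha : a ≠ ⊥) :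
    ∑ x ∈ Finset.univ.filter (fun x : α => x ⊔ a = ⊤), mu ℤ (⊥ : α) x = 0 := by
  classical
  -- S(y) = sum of mu(bot, x) over x with x ⊔ a = y
  let S : α → ℤ := fun y => ∑ x ∈ Finset.univ.filter (fun x : α => x ⊔ a = y), mu ℤ (⊥ : α) x
  have hsum : ∀ z : α, a ≤ z → ∑ y ∈ Icc a z, S y = 0 := by
    intro z haz
    have h1 : ∑ y ∈ Icc a z, S y = ∑ x ∈ Icc (⊥ : α) z, mu ℤ (⊥ : α) x := by
      simp only [S]
      rw [Finset.sum_comm' (t' := Icc (⊥ : α) z) (s' := fun x => {x ⊔ a})]
      · refine Finset.sum_congr rfl fun x _ => ?_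
        simp
      · intro y x
        simp only [mem_Icc, Finset.mem_filter, Finset.mem_univ, true_and, bot_le,
          Finset.mem_singleton]
        constructor
        · rintro ⟨⟨_, h2⟩, h3⟩
          subst h3
          exact ⟨rfl, le_sup_left.trans h2⟩
        · rintro ⟨h1, h2⟩
          subst h1
          exact ⟨⟨le_sup_right, sup_le h2 haz⟩, rfl⟩
    rw [h1, sum_Icc_mu_right]
    rw [if_neg]
    intro h
    exact ha (le_bot_iff.1 (h ▸ haz))
  suffices H : ∀ k : ℕ, ∀ z : α, a ≤ z → (Icc a z).card = k → S z = 0 from
    H _ ⊤ le_top rfl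
  intro k
  induction k using Nat.strong_induction_on with
  | _ k ih =>
    intro z haz hk
    have h := hsum z haz
    have hIcc : Icc a z = insert z (Ico a z) := by
      ext x; simp only [mem_Icc, mem_insert, mem_Ico]
      constructor
      · rintro ⟨h1, h2⟩
        rcases h2.eq_or_lt with h | h
        · exact Or.inl h
        · exact Or.inr ⟨h1, h⟩
      · rintro (h | h)
        · subst h; exact ⟨haz, le_rfl⟩
        · exact ⟨h.1, h.2.le⟩
    rw [hIcc, Finset.sum_insert (by simp)] at h
    have h0 : ∑ y ∈ Ico a z, S y = 0 := by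
      refine Finset.sum_eq_zero fun y hy => ?_
      have hy' := mem_Ico.1 hy
      refine ih (Icc a y).card ?_ y hy'.1 rfl
      rw [← hk]
      refine card_lt_card ⟨fun x hx => ?_, fun h => ?_⟩
      · rw [mem_Icc] at hx ⊢
        exact ⟨hx.1, hx.2.trans hy'.2.le⟩
      · have : z ∈ Icc a y := h (by rw [mem_Icc]; exact ⟨haz, le_rfl⟩)
        rw [mem_Icc] at this
        exact lt_irrefl _ (lt_of_lt_of_le hy'.2 this.2)
    rw [h0, add_zero] at h
    exact h

end Weisner

end Cfsg.Agent.S2425L
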