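import Mathlib
import Cfsg.Agent.Lib.S2425.Hall

/-!
The Moebius number of the lattice of subspaces of an `m`-dimensional space over a field with `Q`
elements is `(-1)^m Q^(m(m-1)/2)`.
-/

set_option autoImplicit false

namespace Cfsg.Agent.S2425L

open Finset IncidenceAlgebra Module

section Count

variable {K : Type*} [Field K] [Finite K] {V : Type*} [AddCommGroup V] [Module K V] [Finite V]

theorem natCard_eq_pow_finrank : Nat.card V = Nat.card K ^ finrank K V := by
  classical
  haveI : Fintype K := Fintype.ofFinite K
  haveI : Fintype V := Fintype.ofFinite V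
  rw [Nat.card_eq_fintype_card, Nat.card_eq_fintype_card]
  exact Module.card_eq_pow_finrank

/-- The number of linear functionals taking the value `1` at a fixed nonzero vector. -/
theorem card_dual_eq_one {v : V} (hv : v ≠ 0) :
    Nat.card {φ : V →ₗ[K] K // φ v = 1} = Nat.card K ^ (finrank K V - 1) := by
  classical
  haveI : FiniteDimensional K V := Module.Finite.of_finite
  -- the evaluation map
  let ev : (V →ₗ[K] K) →ₗ[K] K := LinearMap.applyₗ v
  have hev : ∀ φ : V →ₗ[K] K, ev φ = φ v := fun φ => rfl
  -- a functional with value one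
  obtain ⟨φ₀, hφ₀⟩ : ∃ φ₀ : V →ₗ[K] K, φ₀ v = 1 := Module.Projective.exists_dual_eq_one K hv
  -- the fibre over one is a translate of the kernel
  have e : {φ : V →ₗ[K] K // φ v = 1} ≃ LinearMap.ker ev :=
    { toFun := fun φ => ⟨φ.1 - φ₀, by
        rw [LinearMap.mem_ker, map_sub, hev, hev, φ.2, hφ₀, sub_self]⟩
      invFun := fun ψ => ⟨ψ.1 + φ₀, by
        have := ψ.2
        rw [LinearMap.mem_ker, hev] at this
        rw [LinearMap.add_apply, this, hφ₀, zero_add]⟩
      left_inv := fun φ => by simp
      right_inv := fun ψ => by simp }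
  rw [Nat.card_congr e]
  haveI : Finite (V →ₗ[K] K) := Finite.of_injective (fun f => (f : V → K)) DFunLike.coe_injective
  rw [natCard_eq_pow_finrank (K := K) (V := LinearMap.ker ev)]
  congr 1
  have hrange : LinearMap.range ev = ⊤ := by
    rw [LinearMap.range_eq_top]
    intro c
    exact ⟨c • φ₀, by rw [hev, LinearMap.smul_apply, hφ₀, smul_eq_mul, mul_one]⟩
  have h1 := LinearMap.finrank_range_add_finrank_ker ev
  rw [hrange, finrank_top, Module.finrank_self, Module.finrank_linearMap_self] at h1
  omega

/-- The number of complements of a line. -/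
theorem card_compl_line {v : V} (hv : v ≠ 0) :
    Nat.card {W : Submodule K V // IsCompl (K ∙ v) W} = Nat.card K ^ (finrank K V - 1) := by
  classical
  rw [Nat.card_congr (Submodule.isComplEquivProj (K ∙ v)), ← card_dual_eq_one (K := K) hv]
  let e : K ≃ₗ[K] ↥(K ∙ v) := LinearEquiv.toSpanNonzeroSingleton K V v hv
  have he1 : e 1 = ⟨v, Submodule.mem_span_singleton_self v⟩ := by
    apply Subtype.ext
    simp [e]
  refine Nat.card_congr
    { toFun := fun f => ⟨e.symm.toLinearMap ∘ₗ f.1, ?_⟩
      invFun := fun φ => ⟨e.toLinearMap ∘ₗ φ.1, ?_⟩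
      left_inv := fun f => ?_
      right_inv := fun φ => ?_ }
  · have := f.2 ⟨v, Submodule.mem_span_singleton_self v⟩
    simp only [LinearMap.coe_comp, LinearEquiv.coe_coe, Function.comp_apply]
    rw [this, ← he1, LinearEquiv.symm_apply_apply]
  · rintro ⟨x, hx⟩
    obtain ⟨c, rfl⟩ := Submodule.mem_span_singleton.1 hx
    simp only [LinearMap.coe_comp, LinearEquiv.coe_coe, Function.comp_apply, map_smul, φ.2]
    apply Subtype.ext
    simp [he1]
  · apply Subtype.ext
    ext x
    simp
  · apply Subtype.ext
    ext x
    simp

end Count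

section Mu

universe u

variable {K : Type*} [Field K] [Finite K]

omit [Finite K] in
/-- The value of the Moebius function of a subspace lattice at `(⊥, W)` is the Moebius number
of the subspace lattice of `W`. -/
theorem mu_bot_eq {V : Type u} [AddCommGroup V] [Module K V]
    [LocallyFiniteOrder (Submodule K V)] [DecidableEq (Submodule K V)] (W : Submodule K V)
    [LocallyFiniteOrder (Submodule K W)] [DecidableEq (Submodule K W)] :
    mu ℤ (⊥ : Submodule K V) W = mu ℤ (⊥ : Submodule K W) ⊤ := by
  classical
  letI : LocallyFiniteOrder (Subtype fun x : Submodule K V => x ∈ Set.Iic W) :=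
    Subtype.instLocallyFiniteOrder _
  have h1 := mu_subtype (α := Submodule K V) (fun x => x ∈ Set.Iic W)
    (fun a b x _ hxb _ hb => le_trans hxb hb) ⟨⊥, Set.mem_Iic.2 bot_le⟩ ⟨W, Set.mem_Iic.2 le_rfl⟩
  simp only at h1
  rw [← h1]
  have h2 := mu_orderIso (Submodule.mapIic W) (⊥ : Submodule K W) ⊤
  have e1 : Submodule.mapIic W (⊥ : Submodule K W) = ⟨⊥, Set.mem_Iic.2 bot_le⟩ :=
    Subtype.ext (by simp)
  have e2 : Submodule.mapIic W (⊤ : Submodule K W) = ⟨W, Set.mem_Iic.2 le_rfl⟩ :=
    Subtype.ext (by simp)
  rw [e1, e2] at h2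
  exact h2

theorem mu_submodule (m : ℕ) : ∀ (V : Type u) [AddCommGroup V] [Module K V] [Finite V]
    [LocallyFiniteOrder (Submodule K V)] [DecidableEq (Submodule K V)],
    finrank K V = m →
    mu ℤ (⊥ : Submodule K V) ⊤ = (-1) ^ m * (Nat.card K : ℤ) ^ (m.choose 2) := by
  classical
  induction m with
  | zero =>
    intro V _ _ _ _ _ hm
    haveI : FiniteDimensional K V := Module.Finite.of_finite
    have : Subsingleton V := Module.finrank_zero_iff.1 hm
    have hbt : (⊥ : Submodule K V) = ⊤ := Subsingleton.elim _ _
    rw [hbt, mu_self]; simp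
  | succ m ih =>
    intro V _ _ _ _ _ hm
    haveI : FiniteDimensional K V := Module.Finite.of_finite
    haveI : Fintype (Submodule K V) := Fintype.ofFinite _
    obtain ⟨v, hv⟩ : ∃ v : V, v ≠ 0 := by
      have : 0 < finrank K V := by omega
      exact Module.finrank_pos_iff_exists_ne_zero.1 this
    have hline : (K ∙ v) ≠ ⊥ := by
      intro h
      exact hv ((Submodule.span_singleton_eq_bot).1 h)
    have hW := weisner (α := Submodule K V) (K ∙ v) hline
    have hfilter : Finset.univ.filter (fun x : Submodule K V => x ⊔ (K ∙ v) = ⊤) =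
        insert ⊤ (Finset.univ.filter (fun W : Submodule K V => IsCompl (K ∙ v) W)) := by
      ext W
      simp only [Finset.mem_filter, Finset.mem_univ, true_and, Finset.mem_insert]
      constructor
      · intro h
        by_cases hWt : W = ⊤
        · exact Or.inl hWt
        · right
          refine ⟨?_, by rw [codisjoint_iff, sup_comm]; exact h⟩
          rw [disjoint_iff]
          by_contra hne
          -- the line is an atom
          have hatom : IsAtom (K ∙ v) := by
            exact nonzero_span_atom v hv
          have hle : (K ∙ v) ⊓ W ≤ K ∙ v := inf_le_left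
          rcases hatom.le_iff.1 hle with h0 | h0
          · exact hne h0
          · have : (K ∙ v) ≤ W := by rw [← h0]; exact inf_le_right
            rw [sup_eq_left.2 this] at h
            exact hWt h
      · rintro (h | h)
        · rw [h]; simp
        · rw [sup_comm]; exact h.sup_eq_top
    rw [hfilter, Finset.sum_insert] at hW
    swap
    · simp only [Finset.mem_filter, Finset.mem_univ, true_and]
      intro h
      have := h.inf_eq_bot
      rw [inf_top_eq] at this
      exact hline this
    have hconst : ∀ W ∈ Finset.univ.filter (fun W : Submodule K V => IsCompl (K ∙ v) W),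
        mu ℤ (⊥ : Submodule K V) W = (-1) ^ m * (Nat.card K : ℤ) ^ (m.choose 2) := by
      intro W hWc
      simp only [Finset.mem_filter, Finset.mem_univ, true_and] at hWc
      haveI : Fintype (Submodule K W) := Fintype.ofFinite _
      letI : LocallyFiniteOrder (Submodule K W) := Fintype.toLocallyFiniteOrder
      rw [mu_bot_eq W]
      refine ih W ?_
      have := Submodule.finrank_add_eq_of_isCompl hWc
      rw [finrank_span_singleton hv] at this
      omega
    rw [Finset.sum_congr rfl hconst, Finset.sum_const] at hW
    have hcard : (Finset.univ.filter (fun W : Submodule K V => IsCompl (K ∙ v) W)).card =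
        Nat.card K ^ m := by
      have := card_compl_line (K := K) hv
      rw [hm, Nat.add_sub_cancel] at this
      rw [← this, Nat.card_eq_fintype_card, Fintype.card_subtype]
    rw [hcard] at hW
    have hch : (m + 1).choose 2 = m + m.choose 2 := by
      rw [Nat.choose_succ_succ' m 1, Nat.choose_one_right]
    rw [hch, pow_add, pow_succ]
    have : mu ℤ (⊥ : Submodule K V) ⊤ =
        - ((Nat.card K ^ m : ℕ) • ((-1) ^ m * (Nat.card K : ℤ) ^ (m.choose 2))) := by
      linarith
    rw [this]
    push_cast
    rw [nsmul_eq_mul]
    push_cast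
    ring

end Mu

end Cfsg.Agent.S2425L
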