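import Mathlib
import Cfsg.Agent.Lib.S2425.SubMu

/-!
The Moebius number of the lattice of invariant subspaces of a semisimple endomorphism of a finite
vector space, in terms of the characteristic polynomial.
-/

set_option autoImplicit false

namespace Cfsg.Agent.S2425L

open Finset IncidenceAlgebra Module Polynomial

section Prod

variable {α β : Type*} [PartialOrder α] [PartialOrder β] [LocallyFiniteOrder α]
  [LocallyFiniteOrder β] [DecidableEq α] [DecidableEq β] [LocallyFiniteOrder (α × β)]
  [DecidableEq (α × β)]

theorem mu_prod (a a' : α) (b b' : β) :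
    mu ℤ ((a, b) : α × β) (a', b') = mu ℤ a a' * mu ℤ b b' := by
  classical
  obtain rfl : ‹LocallyFiniteOrder (α × β)› = Prod.instLocallyFiniteOrder :=
    Subsingleton.elim _ _
  obtain rfl : ‹DecidableEq (α × β)› = instDecidableEqProd :=
    Subsingleton.elim _ _
  rw [← mu_prod_mu]
  rfl

end Prod

section Invt

variable {F : Type*} [Field F] {V : Type*} [AddCommGroup V] [Module F V]

/-- An invariant subspace is invariant under every polynomial in the endomorphism. -/
theorem invt_aeval (T : End F V) {W : Submodule F V} (hW : W ∈ T.invtSubmodule) (p : F[X]) :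
    W ∈ (aeval T p).invtSubmodule := by
  induction p using Polynomial.induction_on with
  | C a =>
    intro x hx
    simp only [aeval_C, Submodule.mem_comap]
    exact W.smul_mem a hx
  | add p q hp hq =>
    intro x hx
    simp only [map_add, Submodule.mem_comap, LinearMap.add_apply]
    exact W.add_mem (hp hx) (hq hx)
  | monomial n a h =>
    intro x hx
    have h1 := h hx
    simp only [Submodule.mem_comap] at h1 ⊢
    have : aeval T (C a * X ^ (n + 1)) x = T (aeval T (C a * X ^ n) x) := by
      have e : (C a * X ^ (n + 1) : F[X]) = X * (C a * X ^ n) := by ring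
      rw [e, map_mul, aeval_X]
      rfl
    rw [this]
    exact hW h1

end Invt

section ProdIso

variable {F : Type*} [Field F] {V₁ V₂ : Type*} [AddCommGroup V₁] [Module F V₁]
  [AddCommGroup V₂] [Module F V₂]

theorem aeval_prodMap (T₁ : End F V₁) (T₂ : End F V₂) (p : F[X]) :
    aeval (T₁.prodMap T₂) p = (aeval T₁ p).prodMap (aeval T₂ p) := by
  have := Polynomial.aeval_algHom_apply (LinearMap.prodMapAlgHom F V₁ V₂) (T₁, T₂) p
  rw [aeval_prod_apply] at this
  exact this

theorem invt_prod_split (T₁ : End F V₁) (T₂ : End F V₂) {f₁ f₂ : F[X]}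
    (h₁ : aeval T₁ f₁ = 0) (h₂ : aeval T₂ f₂ = 0) (hc : IsCoprime f₁ f₂)
    {W : Submodule F (V₁ × V₂)} (hW : W ∈ Module.End.invtSubmodule (T₁.prodMap T₂))
    {v : V₁ × V₂} (hv : v ∈ W) : (v.1, (0 : V₂)) ∈ W ∧ ((0 : V₁), v.2) ∈ W := by
  obtain ⟨a, b, hab⟩ := hc
  have e1 : aeval T₁ (b * f₂) = 1 := by
    have : b * f₂ = 1 - a * f₁ := by rw [← hab]; ring
    rw [this, map_sub, map_one, map_mul, h₁, mul_zero, sub_zero]
  have e2 : aeval T₂ (b * f₂) = 0 := by rw [map_mul, h₂, mul_zero]
  have e3 : aeval T₁ (a * f₁) = 0 := by rw [map_mul, h₁, mul_zero]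
  have e4 : aeval T₂ (a * f₁) = 1 := by
    have : a * f₁ = 1 - b * f₂ := by rw [← hab]; ring
    rw [this, map_sub, map_one, map_mul, h₂, mul_zero, sub_zero]
  constructor
  · have := invt_aeval _ hW (b * f₂) hv
    rw [Submodule.mem_comap, aeval_prodMap, e1, e2] at this
    simpa using this
  · have := invt_aeval _ hW (a * f₁) hv
    rw [Submodule.mem_comap, aeval_prodMap, e3, e4] at this
    simpa using this

/-- The lattice of invariant subspaces of a product of two endomorphisms with coprime annihilating
polynomials is the product of the lattices. -/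
noncomputable def invtProdIso (T₁ : End F V₁) (T₂ : End F V₂) {f₁ f₂ : F[X]}
    (h₁ : aeval T₁ f₁ = 0) (h₂ : aeval T₂ f₂ = 0) (hc : IsCoprime f₁ f₂) :
    Module.End.invtSubmodule (T₁.prodMap T₂) ≃o T₁.invtSubmodule × T₂.invtSubmodule where
  toFun W := (⟨W.1.comap (LinearMap.inl F V₁ V₂), fun x hx => by
      have := W.2 hx
      simpa using this⟩,
    ⟨W.1.comap (LinearMap.inr F V₁ V₂), fun x hx => by
      have := W.2 hx
      simpa using this⟩)
  invFun AB := ⟨AB.1.1.prod AB.2.1, fun x hx => by
      rw [Submodule.mem_comap, Submodule.mem_prod]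
      exact ⟨AB.1.2 hx.1, AB.2.2 hx.2⟩⟩
  left_inv W := by
    apply Subtype.ext
    ext v
    simp only [Submodule.mem_prod, Submodule.mem_comap, LinearMap.inl_apply, LinearMap.inr_apply]
    constructor
    · rintro ⟨hv1, hv2⟩
      have := W.1.add_mem hv1 hv2
      simpa using this
    · intro hv
      exact invt_prod_split T₁ T₂ h₁ h₂ hc W.2 hv
  right_inv AB := by
    apply Prod.ext
    · apply Subtype.ext
      ext x
      simp
    · apply Subtype.ext
      ext x
      simp
  map_rel_iff' := by
    intro W W'
    constructor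
    · rintro ⟨hle1, hle2⟩ v hv
      obtain ⟨hv1, hv2⟩ := invt_prod_split T₁ T₂ h₁ h₂ hc W.2 hv
      have a1 : (v.1, (0 : V₂)) ∈ W'.1 := hle1 (show v.1 ∈ W.1.comap (LinearMap.inl F V₁ V₂) from hv1)
      have a2 : ((0 : V₁), v.2) ∈ W'.1 := hle2 (show v.2 ∈ W.1.comap (LinearMap.inr F V₁ V₂) from hv2)
      have := W'.1.add_mem a1 a2
      simpa using this
    · intro hle
      exact ⟨Submodule.comap_mono hle, Submodule.comap_mono hle⟩

end ProdIso

section Conj

variable {F : Type*} [Field F] {V V' : Type*} [AddCommGroup V] [Module F V]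
  [AddCommGroup V'] [Module F V']

/-- Conjugate endomorphisms have isomorphic lattices of invariant subspaces. -/
noncomputable def invtConjIso (e : V ≃ₗ[F] V') (T : End F V) :
    T.invtSubmodule ≃o (e.conj T).invtSubmodule where
  toFun W := ⟨W.1.map (e : V →ₗ[F] V'), LinearEquiv.map_mem_invtSubmodule_conj_iff.2 W.2⟩
  invFun W := ⟨W.1.comap (e : V →ₗ[F] V'), by
    have h := W.2
    have : (W.1.comap (e : V →ₗ[F] V')).map (e : V →ₗ[F] V') = W.1 :=
      Submodule.map_comap_eq_of_surjective e.surjective _
    rw [← this] at h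
    exact LinearEquiv.map_mem_invtSubmodule_conj_iff.1 h⟩
  left_inv W := by
    apply Subtype.ext
    exact Submodule.comap_map_eq_of_injective e.injective _
  right_inv W := by
    apply Subtype.ext
    exact Submodule.map_comap_eq_of_surjective e.surjective _
  map_rel_iff' := by
    intro W W'
    constructor
    · intro h
      have := Submodule.comap_mono (f := (e : V →ₗ[F] V')) h
      simp only [Equiv.coe_fn_mk] at this
      rwa [Submodule.comap_map_eq_of_injective e.injective,
        Submodule.comap_map_eq_of_injective e.injective] at this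
    · intro h
      exact Submodule.map_mono h

end Conj

end Cfsg.Agent.S2425L
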