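import Mathlib
import Cfsg.Agent.Lib.S2425.Semisimple

/-!
The primary case: an endomorphism `T` of a finite vector space killed by an irreducible monic
polynomial `f`.  The space is a vector space over `AdjoinRoot f`, the invariant subspaces are the
subspaces over that field, the characteristic polynomial is a power of `f`.
-/

set_option autoImplicit false
set_option linter.style.haveILetI false

open Polynomial Module TensorProduct IncidenceAlgebra

namespace Cfsg.Agent.S2425L

section Primary

universe u

variable {F : Type*} [Field F] {V : Type u} [AddCommGroup V] [Module F V]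

/-- The structure map of the `AdjoinRoot f`-module structure on `V` defined by an endomorphism
killed by `f`. -/
noncomputable def adjHom (f : F[X]) (T : End F V) (hT : aeval T f = 0) :
    AdjoinRoot f →ₐ[F] End F V :=
  Ideal.Quotient.liftₐ (Ideal.span {f}) (aeval T) (by
    intro a ha
    obtain ⟨c, rfl⟩ := Ideal.mem_span_singleton.1 ha
    rw [map_mul, hT, zero_mul])

theorem adjHom_mk (f : F[X]) (T : End F V) (hT : aeval T f = 0) (g : F[X]) :
    adjHom f T hT (AdjoinRoot.mk f g) = aeval T g := rfl

theorem adjHom_root (f : F[X]) (T : End F V) (hT : aeval T f = 0) :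
    adjHom f T hT (AdjoinRoot.root f) = T := by
  rw [AdjoinRoot.root, adjHom_mk, aeval_X]

/-- `V` as a module over `AdjoinRoot f`, the root acting as `T`. -/
@[nolint unusedArguments]
def AdjMod (f : F[X]) (T : End F V) (_hT : aeval T f = 0) : Type u := V

variable (f : F[X]) (T : End F V) (hT : aeval T f = 0)

instance : AddCommGroup (AdjMod f T hT) := inferInstanceAs (AddCommGroup V)
instance : Module F (AdjMod f T hT) := inferInstanceAs (Module F V)
instance [Finite V] : Finite (AdjMod f T hT) := inferInstanceAs (Finite V)

noncomputable instance : Module (AdjoinRoot f) (AdjMod f T hT) :=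
  Module.compHom V (adjHom f T hT).toRingHom

theorem adj_smul_def (k : AdjoinRoot f) (v : AdjMod f T hT) :
    k • v = (adjHom f T hT k) (show V from v) := rfl

instance : IsScalarTower F (AdjoinRoot f) (AdjMod f T hT) where
  smul_assoc a k v := by
    rw [adj_smul_def, adj_smul_def, map_smul]
    rfl

/-- Invariant subspaces are the `AdjoinRoot f`-submodules. -/
noncomputable def invtAdjIso :
    T.invtSubmodule ≃o Submodule (AdjoinRoot f) (AdjMod f T hT) where
  toFun W :=
    { carrier := (W.1 : Set V)
      add_mem' := W.1.add_mem
      zero_mem' := W.1.zero_mem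
      smul_mem' := by
        intro k v hv
        obtain ⟨g, rfl⟩ := AdjoinRoot.mk_surjective k
        rw [adj_smul_def, adjHom_mk]
        exact invt_aeval T W.2 g hv }
  invFun U := ⟨
    { carrier := {v : V | (show AdjMod f T hT from v) ∈ U}
      add_mem' := fun {a b} ha hb => U.add_mem ha hb
      zero_mem' := U.zero_mem
      smul_mem' := by
        intro a v hv
        have : (a • v : V) = (algebraMap F (AdjoinRoot f) a) • (show AdjMod f T hT from v) := by
          rw [adj_smul_def, AlgHom.commutes]
          rfl
        change (show AdjMod f T hT from (a • v : V)) ∈ U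
        rw [this]
        exact U.smul_mem _ hv }, by
    intro v hv
    have : T v = (AdjoinRoot.root f) • (show AdjMod f T hT from v) := by
      rw [adj_smul_def, adjHom_root]
    change (show AdjMod f T hT from T v) ∈ U
    rw [this]
    exact U.smul_mem _ hv⟩
  left_inv W := by
    apply Subtype.ext
    ext v
    rfl
  right_inv U := by
    ext v
    rfl
  map_rel_iff' := Iff.rfl

theorem irreducible_dvd_of_dvd_charpoly {F V : Type*} [Field F] [AddCommGroup V] [Module F V]
    [FiniteDimensional F V] (T : End F V) {P h : F[X]} (hP : aeval T P = 0)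
    (hh : Irreducible h) (hd : h ∣ T.charpoly) : h ∣ P := by
  by_contra hnd
  have hcop : IsCoprime h P := (hh.coprime_iff_not_dvd).2 hnd
  obtain ⟨a, b, hab⟩ := hcop
  let E := AlgebraicClosure F
  have hdeg : h.degree ≠ 0 := (Polynomial.degree_pos_of_irreducible hh).ne'
  obtain ⟨z, hz⟩ := IsAlgClosed.exists_aeval_eq_zero E h hdeg
  let TE : End E (E ⊗[F] V) := T.baseChange E
  have hroot : TE.charpoly.IsRoot z := by
    rw [LinearMap.charpoly_baseChange, IsRoot, eval_map_algebraMap]
    obtain ⟨c, hc⟩ := hd
    rw [hc, map_mul, hz, zero_mul]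
  have heig : TE.HasEigenvalue z := (Module.End.hasEigenvalue_iff_isRoot_charpoly TE z).2 hroot
  have hmin : (minpoly E TE).IsRoot z := Module.End.isRoot_of_hasEigenvalue heig
  have hTE : aeval TE (P.map (algebraMap F E)) = 0 := by
    rw [aeval_map_algebraMap]
    have := Polynomial.aeval_algHom_apply (Module.End.baseChangeHom F E V) T P
    rw [hP, map_zero] at this
    exact this
  have hdvd : minpoly E TE ∣ P.map (algebraMap F E) := minpoly.dvd E TE hTE
  have hPz : aeval z P = 0 := by
    obtain ⟨c, hc⟩ := hdvd
    have : eval z (P.map (algebraMap F E)) = 0 := by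
      rw [hc, eval_mul, hmin, zero_mul]
    rwa [eval_map_algebraMap] at this
  have := congrArg (aeval z) hab
  rw [map_add, map_mul, map_mul, hz, hPz, mul_zero, mul_zero, add_zero, map_one] at this
  exact zero_ne_one this

include hT in
/-- If an irreducible monic `f` kills `T`, the characteristic polynomial is a power of `f`. -/
theorem charpoly_eq_pow [FiniteDimensional F V] (hf : Irreducible f) (hm : f.Monic) :
    ∃ k : ℕ, T.charpoly = f ^ k := by
  classical
  have hmon : T.charpoly.Monic := LinearMap.charpoly_monic T
  have hall : ∀ g ∈ UniqueFactorizationMonoid.normalizedFactors T.charpoly, g = f := by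
    intro g hg
    have hgi : Irreducible g := UniqueFactorizationMonoid.irreducible_of_normalized_factor g hg
    have hgd : g ∣ T.charpoly := UniqueFactorizationMonoid.dvd_of_mem_normalizedFactors hg
    have hgf : g ∣ f := irreducible_dvd_of_dvd_charpoly T hT hgi hgd
    have hass : Associated g f := hgi.associated_of_dvd hf hgf
    have hgn : normalize g = g := UniqueFactorizationMonoid.normalize_normalized_factor g hg
    rw [← hgn, ← hm.normalize_eq_self]
    exact normalize_eq_normalize_iff.2 ⟨hass.dvd, hass.symm.dvd⟩
  obtain ⟨k, hk⟩ : ∃ k, UniqueFactorizationMonoid.normalizedFactors T.charpoly =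
      Multiset.replicate k f := ⟨_, Multiset.eq_replicate_of_mem hall⟩
  have hprod := UniqueFactorizationMonoid.prod_normalizedFactors_eq hmon.ne_zero
  rw [hmon.normalize_eq_self, hk, Multiset.prod_replicate] at hprod
  exact ⟨k, hprod.symm⟩

include hT in
/-- The primary case: `f` irreducible monic kills `T`. -/
theorem mu_invt_primary [Finite F] [Finite V] (hf : Irreducible f) (hm : f.Monic)
    [LocallyFiniteOrder T.invtSubmodule] [DecidableEq T.invtSubmodule] :
    ∃ m : ℕ, T.charpoly = f ^ m ∧
      mu ℤ (⊥ : T.invtSubmodule) ⊤ =
        (-1) ^ m * ((Nat.card F : ℤ) ^ f.natDegree) ^ (m.choose 2) := by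
  classical
  haveI : Fact (Irreducible f) := ⟨hf⟩
  haveI : FiniteDimensional F V := Module.Finite.of_finite
  haveI : Module.Finite F (AdjoinRoot f) := hm.finite_adjoinRoot
  haveI : Finite (AdjoinRoot f) := Module.finite_of_finite F
  have hdegK : finrank F (AdjoinRoot f) = f.natDegree := by
    rw [(AdjoinRoot.powerBasis hm.ne_zero).finrank, AdjoinRoot.powerBasis_dim]
  have hcardK : Nat.card (AdjoinRoot f) = Nat.card F ^ f.natDegree := by
    rw [natCard_eq_pow_finrank (K := F) (V := AdjoinRoot f), hdegK]
  refine ⟨finrank (AdjoinRoot f) (AdjMod f T hT), ?_, ?_⟩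
  · obtain ⟨k, hk⟩ := charpoly_eq_pow f T hT hf hm
    have h1 : (T.charpoly).natDegree = finrank F V := LinearMap.charpoly_natDegree T
    have h2 : finrank F (AdjoinRoot f) * finrank (AdjoinRoot f) (AdjMod f T hT) =
        finrank F (AdjMod f T hT) := Module.finrank_mul_finrank F (AdjoinRoot f) (AdjMod f T hT)
    have h3 : finrank F (AdjMod f T hT) = finrank F V := rfl
    rw [hk, natDegree_pow, hdegK.symm] at h1
    have hpos : 0 < f.natDegree := hf.natDegree_pos
    have : k = finrank (AdjoinRoot f) (AdjMod f T hT) := by
      rw [← h3, ← h2, mul_comm] at h1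
      rw [hdegK] at h1
      exact Nat.eq_of_mul_eq_mul_left hpos h1
    rw [← this, hk]
  · haveI : Fintype (Submodule (AdjoinRoot f) (AdjMod f T hT)) := Fintype.ofFinite _
    letI : LocallyFiniteOrder (Submodule (AdjoinRoot f) (AdjMod f T hT)) :=
      Fintype.toLocallyFiniteOrder
    have h1 := mu_orderIso (invtAdjIso f T hT) ⊥ ⊤
    rw [OrderIso.map_bot, OrderIso.map_top] at h1
    rw [← h1, mu_submodule _ (AdjMod f T hT) rfl, hcardK]
    push_cast
    rfl

end Primary
end Cfsg.Agent.S2425L
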