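import Mathlib
import Cfsg.Agent.Lib.S2425.Primary

/-!
The Moebius number of the lattice of invariant subspaces of an endomorphism with a squarefree
annihilating polynomial, in terms of the factorisation of the characteristic polynomial.
-/

set_option autoImplicit false
set_option linter.style.haveILetI false

open Polynomial Module IncidenceAlgebra UniqueFactorizationMonoid

namespace Cfsg.Agent.S2425L

section MuNum

theorem mu_inst_irrel {α : Type*} [PartialOrder α] (i1 i2 : LocallyFiniteOrder α)
    (d1 d2 : DecidableEq α) (a b : α) :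
    @mu ℤ α _ _ _ i1 d1 a b = @mu ℤ α _ _ _ i2 d2 a b := by
  cases Subsingleton.elim i1 i2
  cases Subsingleton.elim d1 d2
  rfl

/-- The Moebius number `μ(⊥, ⊤)` of a finite bounded partial order. -/
noncomputable def muNum (α : Type*) [PartialOrder α] [BoundedOrder α] [Finite α] : ℤ :=
  letI : Fintype α := Fintype.ofFinite α
  letI : DecidableEq α := Classical.decEq α
  letI : DecidableLE α := Classical.decRel _
  letI : DecidableLT α := Classical.decRel _
  letI : LocallyFiniteOrder α := Fintype.toLocallyFiniteOrder
  mu ℤ (⊥ : α) ⊤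

theorem muNum_eq (α : Type*) [PartialOrder α] [BoundedOrder α] [Finite α]
    [LocallyFiniteOrder α] [DecidableEq α] : mu ℤ (⊥ : α) ⊤ = muNum α := by
  unfold muNum
  exact mu_inst_irrel _ _ _ _ _ _

theorem muNum_congr {α β : Type*} [PartialOrder α] [BoundedOrder α] [Finite α]
    [PartialOrder β] [BoundedOrder β] [Finite β] (e : α ≃o β) : muNum α = muNum β := by
  classical
  letI : Fintype α := Fintype.ofFinite α
  letI : Fintype β := Fintype.ofFinite β
  letI : LocallyFiniteOrder α := Fintype.toLocallyFiniteOrder
  letI : LocallyFiniteOrder β := Fintype.toLocallyFiniteOrder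
  rw [← muNum_eq α, ← muNum_eq β, ← e.map_bot, ← e.map_top]
  exact (mu_orderIso e ⊥ ⊤).symm

theorem muNum_prod (α β : Type*) [PartialOrder α] [BoundedOrder α] [Finite α]
    [PartialOrder β] [BoundedOrder β] [Finite β] : muNum (α × β) = muNum α * muNum β := by
  classical
  letI : Fintype α := Fintype.ofFinite α
  letI : Fintype β := Fintype.ofFinite β
  letI : LocallyFiniteOrder α := Fintype.toLocallyFiniteOrder
  letI : LocallyFiniteOrder β := Fintype.toLocallyFiniteOrder
  letI : LocallyFiniteOrder (α × β) := Fintype.toLocallyFiniteOrder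
  rw [← muNum_eq α, ← muNum_eq β, ← muNum_eq (α × β)]
  exact mu_prod ⊥ ⊤ ⊥ ⊤

theorem muNum_of_subsingleton (α : Type*) [PartialOrder α] [BoundedOrder α] [Finite α]
    [Subsingleton α] : muNum α = 1 := by
  classical
  letI : Fintype α := Fintype.ofFinite α
  letI : LocallyFiniteOrder α := Fintype.toLocallyFiniteOrder
  rw [← muNum_eq α, Subsingleton.elim (⊥ : α) ⊤, mu_self]

end MuNum

section Rfun

variable {F : Type*} [Field F] [DecidableEq F]

/-- The predicted Moebius number, in terms of the factorisation of the characteristic polynomial. -/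
noncomputable def Rfun (q : ℕ) (P : F[X]) : ℤ :=
  ∏ f ∈ (normalizedFactors P).toFinset,
    ((-1) ^ ((normalizedFactors P).count f) *
      ((q : ℤ) ^ f.natDegree) ^ (((normalizedFactors P).count f).choose 2))

theorem Rfun_one (q : ℕ) : Rfun q (1 : F[X]) = 1 := by
  simp [Rfun]

theorem Rfun_pow (q : ℕ) {f : F[X]} (hf : Irreducible f) (hm : f.Monic) (m : ℕ) :
    Rfun q (f ^ m) = (-1) ^ m * ((q : ℤ) ^ f.natDegree) ^ (m.choose 2) := by
  rcases Nat.eq_zero_or_pos m with rfl | hpos
  · simp [Rfun]
  · have hnf : normalizedFactors (f ^ m) = Multiset.replicate m f := by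
      rw [normalizedFactors_pow, normalizedFactors_irreducible hf, hm.normalize_eq_self,
        Multiset.nsmul_singleton]
    unfold Rfun
    rw [hnf, Multiset.toFinset_replicate, if_neg hpos.ne', Finset.prod_singleton,
      Multiset.count_replicate_self]

theorem Rfun_mul (q : ℕ) {A B : F[X]} (hA : A ≠ 0) (hB : B ≠ 0)
    (hdisj : ∀ g ∈ normalizedFactors A, g ∉ normalizedFactors B) :
    Rfun q (A * B) = Rfun q A * Rfun q B := by
  unfold Rfun
  rw [normalizedFactors_mul hA hB, Multiset.toFinset_add, Finset.prod_union]
  · congr 1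
    · refine Finset.prod_congr rfl fun g hg => ?_
      rw [Multiset.mem_toFinset] at hg
      rw [Multiset.count_add, Multiset.count_eq_zero_of_notMem (hdisj g hg), add_zero]
    · refine Finset.prod_congr rfl fun g hg => ?_
      rw [Multiset.mem_toFinset] at hg
      have : g ∉ normalizedFactors A := fun h => hdisj g h hg
      rw [Multiset.count_add, Multiset.count_eq_zero_of_notMem this, zero_add]
  · rw [Finset.disjoint_left]
    intro g hg hg'
    rw [Multiset.mem_toFinset] at hg hg'
    exact hdisj g hg hg'

end Rfun

section Main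

universe u

variable {F : Type*} [Field F]

theorem aeval_restrict {V : Type*} [AddCommGroup V] [Module F V] (T : End F V)
    {W : Submodule F V} (hW : ∀ x ∈ W, T x ∈ W) (p : F[X]) (x : W) :
    ((aeval (T.restrict hW) p x : W) : V) = aeval T p (x : V) := by
  induction p using Polynomial.induction_on generalizing x with
  | C a => simp
  | add p q hp hq => simp [hp, hq]
  | monomial n a h =>
    have e : (C a * X ^ (n + 1) : F[X]) = X * (C a * X ^ n) := by ring
    have l : aeval (T.restrict hW) (X * (C a * X ^ n)) =
        T.restrict hW * aeval (T.restrict hW) (C a * X ^ n) := by rw [map_mul, aeval_X]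
    have r : aeval T (X * (C a * X ^ n)) = T * aeval T (C a * X ^ n) := by rw [map_mul, aeval_X]
    rw [e, l, r, Module.End.mul_apply, Module.End.mul_apply, LinearMap.coe_restrict_apply, h]

theorem ker_aeval_invt {V : Type*} [AddCommGroup V] [Module F V] (T : End F V) (p : F[X]) :
    ∀ x ∈ LinearMap.ker (aeval T p), T x ∈ LinearMap.ker (aeval T p) := by
  intro x hx
  rw [LinearMap.mem_ker] at hx ⊢
  have : aeval T p (T x) = T (aeval T p x) := by
    have e : aeval T (p * X) = aeval T (X * p) := by rw [mul_comm]
    rw [map_mul, map_mul, aeval_X] at e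
    exact LinearMap.congr_fun e x
  rw [this, hx, map_zero]

variable [DecidableEq F] [Finite F]

omit [DecidableEq F] [Finite F] in
theorem charpoly_of_subsingleton {V : Type*} [AddCommGroup V] [Module F V] [Finite V]
    [Subsingleton V] (T : End F V) : T.charpoly = 1 := by
  haveI : FiniteDimensional F V := Module.Finite.of_finite
  have h1 : T.charpoly.natDegree = finrank F V := LinearMap.charpoly_natDegree T
  rw [finrank_zero_of_subsingleton] at h1
  exact (LinearMap.charpoly_monic T).natDegree_eq_zero.1 h1

theorem muNum_invt : ∀ (k : ℕ) (P : F[X]), Squarefree P → (normalizedFactors P).card = k →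
    ∀ (V : Type u) [AddCommGroup V] [Module F V] [Finite V] (T : End F V), aeval T P = 0 →
      muNum T.invtSubmodule = Rfun (Nat.card F) T.charpoly := by
  intro k
  induction k with
  | zero =>
    intro P hsq hcard V _ _ _ T hT
    have hP0 : P ≠ 0 := hsq.ne_zero
    have hunit : IsUnit P := by
      have h1 := prod_normalizedFactors hP0
      rw [Multiset.card_eq_zero.1 hcard, Multiset.prod_zero] at h1
      exact (associated_one_iff_isUnit.1 h1.symm)
    obtain ⟨c, hc, rfl⟩ := Polynomial.isUnit_iff.1 hunit
    have hsub : Subsingleton V := by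
      refine ⟨fun a b => ?_⟩
      have h0 : ∀ v : V, v = 0 := by
        intro v
        have := LinearMap.congr_fun hT v
        rw [aeval_C, Module.algebraMap_end_apply, LinearMap.zero_apply] at this
        exact (smul_eq_zero.1 this).resolve_left hc.ne_zero
      rw [h0 a, h0 b]
    haveI : Subsingleton (Submodule F V) := ⟨fun a b => by
      ext x; rw [Subsingleton.elim x 0]; simp⟩
    rw [muNum_of_subsingleton, charpoly_of_subsingleton, Rfun_one]
  | succ k ih =>
    intro P hsq hcard V _ _ _ T hT
    haveI : FiniteDimensional F V := Module.Finite.of_finite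
    have hP0 : P ≠ 0 := hsq.ne_zero
    obtain ⟨f, hfmem⟩ : ∃ f, f ∈ normalizedFactors P :=
      Multiset.card_pos_iff_exists_mem.1 (by omega)
    have hfi : Irreducible f := irreducible_of_normalized_factor f hfmem
    have hfm : f.Monic := by
      have := normalize_normalized_factor f hfmem
      rw [← this]
      exact Polynomial.monic_normalize hfi.ne_zero
    obtain ⟨P₂, rfl⟩ : f ∣ P := dvd_of_mem_normalizedFactors hfmem
    obtain ⟨hrel, -, hsq₂⟩ := squarefree_mul_iff.1 hsq
    have hcop : IsCoprime f P₂ := hrel.isCoprime
    have hP₂0 : P₂ ≠ 0 := hsq₂.ne_zero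
    have hcard₂ : (normalizedFactors P₂).card = k := by
      rw [normalizedFactors_mul hfi.ne_zero hP₂0, normalizedFactors_irreducible hfi,
        Multiset.card_add, Multiset.card_singleton] at hcard
      omega
    have hfP₂ : ¬ f ∣ P₂ := by
      intro h
      have : IsUnit f := hrel (dvd_refl f) h
      exact hfi.not_isUnit this
    -- the decomposition
    set V₁ : Submodule F V := LinearMap.ker (aeval T f) with hV₁
    set V₂ : Submodule F V := LinearMap.ker (aeval T P₂) with hV₂
    have hcompl : IsCompl V₁ V₂ := by
      refine ⟨Polynomial.disjoint_ker_aeval_of_isCoprime T hcop, ?_⟩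
      rw [codisjoint_iff, hV₁, hV₂, Polynomial.sup_ker_aeval_eq_ker_aeval_mul_of_coprime T hcop, hT,
        LinearMap.ker_zero]
    have hi₁ := ker_aeval_invt T f
    have hi₂ := ker_aeval_invt T P₂
    set T₁ : End F V₁ := T.restrict hi₁ with hT₁
    set T₂ : End F V₂ := T.restrict hi₂ with hT₂
    have hk₁ : aeval T₁ f = 0 := by
      apply LinearMap.ext
      intro x
      apply Subtype.ext
      rw [aeval_restrict, LinearMap.zero_apply, Submodule.coe_zero]
      exact LinearMap.mem_ker.1 x.2
    have hk₂ : aeval T₂ P₂ = 0 := by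
      apply LinearMap.ext
      intro x
      apply Subtype.ext
      rw [aeval_restrict, LinearMap.zero_apply, Submodule.coe_zero]
      exact LinearMap.mem_ker.1 x.2
    let e : (V₁ × V₂) ≃ₗ[F] V := Submodule.prodEquivOfIsCompl V₁ V₂ hcompl
    have hconj : e.conj (T₁.prodMap T₂) = T := by
      apply LinearMap.ext
      intro v
      obtain ⟨p, rfl⟩ := e.surjective v
      rw [LinearEquiv.conj_apply]
      simp only [LinearMap.coe_comp, LinearEquiv.coe_coe, Function.comp_apply,
        LinearEquiv.symm_apply_apply]
      simp only [e, Submodule.coe_prodEquivOfIsCompl', LinearMap.prodMap_apply, map_add]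
      rfl
    -- Moebius numbers
    have hmu : muNum T.invtSubmodule = muNum T₁.invtSubmodule * muNum T₂.invtSubmodule := by
      have h1 := muNum_congr (invtConjIso e (T₁.prodMap T₂))
      rw [hconj] at h1
      rw [← h1, muNum_congr (invtProdIso T₁ T₂ hk₁ hk₂ hcop), muNum_prod]
    -- characteristic polynomials
    have hch : T.charpoly = T₁.charpoly * T₂.charpoly := by
      have h1 := LinearEquiv.charpoly_conj e (T₁.prodMap T₂)
      rw [hconj] at h1
      rw [h1, LinearMap.charpoly_prodMap]
    -- the primary part
    classical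
    letI : Fintype T₁.invtSubmodule := Fintype.ofFinite _
    letI : LocallyFiniteOrder T₁.invtSubmodule := Fintype.toLocallyFiniteOrder
    obtain ⟨m, hm1, hm2⟩ := mu_invt_primary f T₁ hk₁ hfi hfm
    rw [muNum_eq] at hm2
    have hih := ih P₂ hsq₂ hcard₂ V₂ T₂ hk₂
    rw [hmu, hch, hm1, hm2, hih, Rfun_mul, Rfun_pow _ hfi hfm]
    · exact pow_ne_zero _ hfi.ne_zero
    · exact (LinearMap.charpoly_monic T₂).ne_zero
    · intro g hg hg'
      rcases Nat.eq_zero_or_pos m with rfl | hpos
      · simp at hg
      · have hgf : g = f := by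
          rw [normalizedFactors_pow, normalizedFactors_irreducible hfi, hfm.normalize_eq_self,
            Multiset.nsmul_singleton] at hg
          exact Multiset.eq_of_mem_replicate hg
        subst hgf
        have : g ∣ P₂ := irreducible_dvd_of_dvd_charpoly T₂ hk₂ hfi
          (dvd_of_mem_normalizedFactors hg')
        exact hfP₂ this

end Main

end Cfsg.Agent.S2425L
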