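import Mathlib

/-!
The alternating sum over the permutations `κ` with `κ i ≤ i + 1` (those contributing to the
partition-indexed class function for the partition into ones) is an alternating sum over subsets of
`{1, …, n-1}`: such permutations are products of cycles on consecutive blocks, and the
decomposition `Equiv.Perm.decomposeFin` peels off the first block.
-/

set_option autoImplicit false
set_option linter.style.haveILetI false

namespace Cfsg.Agent.S2425L

open Finset Equiv

section Defs

variable {n : ℕ}

/-- The composition attached to `κ` for the partition into ones. -/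
def muK (κ : Perm (Fin n)) : Fin n → ℕ := fun i => 1 + i.val - (κ i).val

/-- The partial sums of a composition. -/
def psum (μ : Fin n → ℕ) (t : Fin n) : ℕ := ∑ k ∈ univ.filter (fun k : Fin n => k ≤ t), μ k

/-- The dimension set of a composition: the partial sums strictly between `0` and `n`. -/
def dimSet (μ : Fin n → ℕ) : Finset ℕ :=
  (univ.image (psum μ)).filter (fun d => 1 ≤ d ∧ d < n)

/-- The permutations contributing to the alternating sum for the partition into ones. -/
def Valid (κ : Perm (Fin n)) : Prop := ∀ i : Fin n, (κ i).val ≤ 1 + i.val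

instance (κ : Perm (Fin n)) : Decidable (Valid κ) := by unfold Valid; infer_instance

theorem mem_dimSet {μ : Fin n → ℕ} {d : ℕ} :
    d ∈ dimSet μ ↔ (∃ t, psum μ t = d) ∧ 1 ≤ d ∧ d < n := by
  simp [dimSet]

theorem psum_cons_zero (a : ℕ) (μ : Fin n → ℕ) :
    psum (Fin.cons a μ : Fin (n + 1) → ℕ) 0 = a := by
  unfold psum
  rw [Finset.sum_filter, Fin.sum_univ_succ]
  simp

theorem psum_cons_succ (a : ℕ) (μ : Fin n → ℕ) (t : Fin n) :
    psum (Fin.cons a μ : Fin (n + 1) → ℕ) t.succ = a + psum μ t := by
  unfold psum
  rw [Finset.sum_filter, Fin.sum_univ_succ, Finset.sum_filter]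
  simp [Fin.succ_le_succ_iff]

end Defs

section Decompose

variable {n : ℕ}

theorem swap_zero_succ_val {p : Fin (n + 1)} (y : Fin n) :
    (swap 0 p y.succ).val = if y.succ = p then 0 else y.val + 1 := by
  by_cases h : y.succ = p
  · rw [if_pos h, h, swap_apply_right]; rfl
  · rw [if_neg h, swap_apply_of_ne_of_ne (Fin.succ_ne_zero y) h]; rfl

/-- Validity of a permutation of `Fin (n+1)` in terms of its decomposition. -/
theorem valid_decomposeFin_symm (p : Fin (n + 1)) (e : Perm (Fin n)) :
    Valid (Perm.decomposeFin.symm (p, e)) ↔ p.val ≤ 1 ∧ Valid e := by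
  constructor
  · intro h
    have h0 := h 0
    rw [Perm.decomposeFin_symm_apply_zero] at h0
    refine ⟨by simpa using h0, fun i => ?_⟩
    have hi := h i.succ
    rw [Perm.decomposeFin_symm_apply_succ, swap_zero_succ_val] at hi
    by_cases hp : (e i).succ = p
    · have : p.val = (e i).val + 1 := by rw [← hp]; rfl
      have h0' : p.val ≤ 1 := by simpa using h0
      omega
    · rw [if_neg hp] at hi
      simp only [Fin.val_succ] at hi
      omega
  · rintro ⟨hp, he⟩ i
    refine Fin.cases ?_ (fun i => ?_) i
    · rw [Perm.decomposeFin_symm_apply_zero]; simpa using hp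
    · rw [Perm.decomposeFin_symm_apply_succ, swap_zero_succ_val]
      have := he i
      split_ifs
      · omega
      · simp only [Fin.val_succ]; omega

theorem muK_decompose_zero (e : Perm (Fin n)) :
    muK (Perm.decomposeFin.symm ((0 : Fin (n + 1)), e)) = Fin.cons 1 (muK e) := by
  funext i
  refine Fin.cases ?_ (fun i => ?_) i
  · simp [muK]
  · simp only [muK, Perm.decomposeFin_symm_apply_succ, swap_self, Equiv.refl_apply, Fin.val_succ,
      Fin.cons_succ]
    omega

theorem muK_decompose_one (e : Perm (Fin (n + 1))) (he : Valid e) :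
    muK (Perm.decomposeFin.symm ((1 : Fin (n + 2)), e)) =
      Fin.cons 0 (fun i => muK e i + if e i = 0 then 1 else 0) := by
  funext i
  refine Fin.cases ?_ (fun i => ?_) i
  · simp [muK]
  · simp only [muK, Perm.decomposeFin_symm_apply_succ, Fin.cons_succ]
    rw [swap_zero_succ_val]
    have hv := he i
    by_cases h0 : e i = 0
    · have : (e i).succ = (1 : Fin (n + 2)) := by rw [h0]; rfl
      rw [if_pos this, if_pos h0, h0]
      simp only [Fin.val_succ, Fin.val_zero]
      omega
    · have : (e i).succ ≠ (1 : Fin (n + 2)) := by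
        intro h
        apply h0
        have : (e i).succ = (0 : Fin (n + 1)).succ := by rw [h]; rfl
        exact Fin.succ_injective _ this
      rw [if_neg this, if_neg h0]
      simp only [Fin.val_succ]
      omega

/-- In a valid permutation, the entries before the preimage of `0` are shifted up by one. -/
theorem valid_first_block {e : Perm (Fin n)} (he : Valid e) {b : Fin n} (hb : (e b).val = 0) :
    ∀ k : Fin n, k < b → (e k).val = k.val + 1 := by
  suffices H : ∀ m : ℕ, ∀ k : Fin n, k.val = m → k < b → (e k).val = k.val + 1 from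
    fun k hk => H k.val k rfl hk
  intro m
  induction m using Nat.strong_induction_on with
  | _ m ih =>
    intro k hk hkb
    have h1 := he k
    by_contra hne
    have h2 : (e k).val ≤ k.val := by omega
    have h3 : (e k).val ≠ 0 := by
      intro h0
      have : e k = e b := Fin.ext (by rw [h0, hb])
      exact absurd (e.injective this) (ne_of_lt hkb)
    have hkn : k.val < n := k.isLt
    let k' : Fin n := ⟨(e k).val - 1, by omega⟩
    have hk'v : k'.val = (e k).val - 1 := rfl
    have hk'm : k'.val < m := by omega
    have hk'k : k' < k := by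
      rw [Fin.lt_def]; omega
    have h4 := ih k'.val hk'm k' rfl (lt_trans hk'k hkb)
    have h5 : e k' = e k := Fin.ext (by rw [h4, hk'v]; omega)
    have h6 := e.injective h5
    rw [h6] at hk'k
    exact lt_irrefl _ hk'k

theorem dimSet_cons_one (hn : 1 ≤ n) (μ : Fin n → ℕ) :
    dimSet (Fin.cons 1 μ : Fin (n + 1) → ℕ) = insert 1 ((dimSet μ).image (· + 1)) := by
  ext d
  rw [mem_dimSet, Finset.mem_insert, Finset.mem_image]
  constructor
  · rintro ⟨⟨t, ht⟩, h1, h2⟩
    revert ht
    refine Fin.cases ?_ (fun t' => ?_) t
    · rw [psum_cons_zero]; intro h; exact Or.inl h.symm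
    · rw [psum_cons_succ]
      intro h
      by_cases h0 : psum μ t' = 0
      · left; omega
      · right
        refine ⟨psum μ t', mem_dimSet.2 ⟨⟨t', rfl⟩, by omega, by omega⟩, by omega⟩
  · rintro (rfl | ⟨d', hd', rfl⟩)
    · exact ⟨⟨0, psum_cons_zero 1 μ⟩, le_refl 1, by omega⟩
    · obtain ⟨⟨t, ht⟩, h1, h2⟩ := mem_dimSet.1 hd'
      exact ⟨⟨t.succ, by rw [psum_cons_succ, ht]; omega⟩, by omega, by omega⟩

theorem psum_muK_eq_zero {e : Perm (Fin n)} (he : Valid e) {b : Fin n} (hb : (e b).val = 0)
    {t : Fin n} (ht : t < b) : psum (muK e) t = 0 := by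
  unfold psum
  refine Finset.sum_eq_zero fun k hk => ?_
  rw [Finset.mem_filter] at hk
  have := valid_first_block he hb k (lt_of_le_of_lt hk.2 ht)
  simp only [muK]
  omega

theorem one_le_psum_muK {e : Perm (Fin n)} {b : Fin n} (hb : (e b).val = 0)
    {t : Fin n} (ht : b ≤ t) : 1 ≤ psum (muK e) t := by
  unfold psum
  have hmem : b ∈ univ.filter (fun k : Fin n => k ≤ t) := by simp [ht]
  have h1 : muK e b ≤ ∑ k ∈ univ.filter (fun k : Fin n => k ≤ t), muK e k :=
    Finset.single_le_sum (fun _ _ => Nat.zero_le _) hmem
  have h2 : 1 ≤ muK e b := by simp only [muK]; omega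
  omega

theorem psum_add_ite (e : Perm (Fin n)) (b : Fin n) (h0 : ∀ k, e k = e b ↔ k = b)
    (t : Fin n) (c : Fin n) (hc : c = e b) :
    psum (fun i => muK e i + if e i = c then 1 else 0) t =
      psum (muK e) t + if b ≤ t then 1 else 0 := by
  unfold psum
  rw [Finset.sum_add_distrib]
  congr 1
  subst hc
  simp only [h0]
  rw [Finset.sum_ite_eq']
  simp

theorem dimSet_cons_zero (e : Perm (Fin (n + 1))) (he : Valid e) :
    dimSet (Fin.cons 0 (fun i => muK e i + if e i = 0 then 1 else 0) : Fin (n + 2) → ℕ) =
      (dimSet (muK e)).image (· + 1) := by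
  set b : Fin (n + 1) := e.symm 0 with hbdef
  have hb0 : e b = 0 := by simp [hbdef]
  have hb : (e b).val = 0 := by rw [hb0]; rfl
  have hps : ∀ t : Fin (n + 1), psum (fun i => muK e i + if e i = 0 then 1 else 0) t =
      psum (muK e) t + if b ≤ t then 1 else 0 := by
    intro t
    refine psum_add_ite e b (fun k => ?_) t 0 hb0.symm
    constructor
    · intro h; exact e.injective h
    · intro h; rw [h]
  ext d
  rw [mem_dimSet, Finset.mem_image]
  constructor
  · rintro ⟨⟨t, ht⟩, h1, h2⟩
    revert ht
    refine Fin.cases ?_ (fun t' => ?_) t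
    · rw [psum_cons_zero]; intro h; omega
    · rw [psum_cons_succ, hps]
      intro h
      by_cases hbt : b ≤ t'
      · rw [if_pos hbt] at h
        have := one_le_psum_muK hb hbt
        exact ⟨psum (muK e) t', mem_dimSet.2 ⟨⟨t', rfl⟩, this, by omega⟩, by omega⟩
      · rw [if_neg hbt, psum_muK_eq_zero he hb (not_le.1 hbt)] at h
        omega
  · rintro ⟨d', hd', rfl⟩
    obtain ⟨⟨t, ht⟩, h1, h2⟩ := mem_dimSet.1 hd'
    have hbt : b ≤ t := by
      by_contra hbt
      rw [psum_muK_eq_zero he hb (not_le.1 hbt)] at ht
      omega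
    refine ⟨⟨t.succ, ?_⟩, by omega, by omega⟩
    rw [psum_cons_succ, hps, if_pos hbt, ht]
    omega

end Decompose

section KappaSum

theorem dimSet_fin_one (μ : Fin 1 → ℕ) : dimSet μ = ∅ := by
  apply Finset.eq_empty_of_forall_notMem
  intro d hd
  rw [mem_dimSet] at hd
  omega

theorem dimSet_fin_zero (μ : Fin 0 → ℕ) : dimSet μ = ∅ := by
  apply Finset.eq_empty_of_forall_notMem
  intro d hd
  rw [mem_dimSet] at hd
  omega

theorem Ico_succ_succ (m : ℕ) :
    Finset.Ico 1 (m + 2) = insert 1 ((Finset.Ico 1 (m + 1)).image (· + 1)) := by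
  ext d
  simp only [Finset.mem_Ico, Finset.mem_insert, Finset.mem_image]
  constructor
  · rintro ⟨h1, h2⟩
    by_cases hd : d = 1
    · exact Or.inl hd
    · exact Or.inr ⟨d - 1, ⟨by omega, by omega⟩, by omega⟩
  · rintro (rfl | ⟨d', ⟨h1, h2⟩, rfl⟩)
    · omega
    · omega

/-- The alternating sum over the permutations `κ` with `κ i ≤ i + 1` is an alternating sum over
the dimension sets. -/
theorem kappa_sum (n : ℕ) : ∀ Ψ : Finset ℕ → ℂ,
    ∑ κ : Perm (Fin n),
      (if Valid κ then ((Perm.sign κ : ℤ) : ℂ) * Ψ (dimSet (muK κ)) else 0) =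
    ∑ D ∈ (Finset.Ico 1 n).powerset, (-1 : ℂ) ^ (n - 1 - D.card) * Ψ D := by
  induction n with
  | zero =>
    intro Ψ
    rw [Fintype.sum_subsingleton _ (1 : Perm (Fin 0))]
    have hv : Valid (1 : Perm (Fin 0)) := fun i => i.elim0
    rw [if_pos hv, dimSet_fin_zero]
    simp
  | succ n ih =>
    intro Ψ
    rw [← Equiv.sum_comp Perm.decomposeFin.symm, Fintype.sum_prod_type]
    rcases Nat.eq_zero_or_pos n with rfl | hn
    · -- degree one
      rw [Fin.sum_univ_succ, Fin.sum_univ_zero, add_zero,
        Fintype.sum_subsingleton _ (1 : Perm (Fin 0))]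
      have hv : Valid (Perm.decomposeFin.symm ((0 : Fin 1), (1 : Perm (Fin 0)))) := by
        rw [valid_decomposeFin_symm]
        exact ⟨by simp, fun i => i.elim0⟩
      rw [if_pos hv, dimSet_fin_one]
      simp
    · obtain ⟨m, rfl⟩ : ∃ m, n = m + 1 := ⟨n - 1, by omega⟩
      rw [Fin.sum_univ_succ, Fin.sum_univ_succ]
      -- the terms with `p ≥ 2` vanish
      have hrest : ∑ p : Fin m, ∑ e : Perm (Fin (m + 1)),
          (if Valid (Perm.decomposeFin.symm (p.succ.succ, e)) then
            ((Perm.sign (Perm.decomposeFin.symm (p.succ.succ, e)) : ℤ) : ℂ) *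
              Ψ (dimSet (muK (Perm.decomposeFin.symm (p.succ.succ, e)))) else 0) = 0 := by
        refine Finset.sum_eq_zero fun p _ => Finset.sum_eq_zero fun e _ => ?_
        rw [if_neg]
        rw [valid_decomposeFin_symm]
        rintro ⟨h, _⟩
        simp only [Fin.val_succ] at h
        omega
      rw [hrest, add_zero]
      -- the term `p = 0`
      have h0 : ∑ e : Perm (Fin (m + 1)),
          (if Valid (Perm.decomposeFin.symm ((0 : Fin (m + 2)), e)) then
            ((Perm.sign (Perm.decomposeFin.symm ((0 : Fin (m + 2)), e)) : ℤ) : ℂ) *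
              Ψ (dimSet (muK (Perm.decomposeFin.symm ((0 : Fin (m + 2)), e)))) else 0) =
          ∑ D ∈ (Finset.Ico 1 (m + 1)).powerset,
            (-1 : ℂ) ^ (m + 1 - 1 - D.card) * Ψ (insert 1 (D.image (· + 1))) := by
        rw [← ih (fun D => Ψ (insert 1 (D.image (· + 1))))]
        refine Finset.sum_congr rfl fun e _ => ?_
        have hv : Valid (Perm.decomposeFin.symm ((0 : Fin (m + 2)), e)) ↔ Valid e := by
          rw [valid_decomposeFin_symm]; simp
        by_cases he : Valid e
        · rw [if_pos he, if_pos (hv.2 he), Perm.decomposeFin.symm_sign, if_pos rfl, one_mul,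
            muK_decompose_zero, dimSet_cons_one (by omega)]
        · rw [if_neg he, if_neg (fun h => he (hv.1 h))]
      -- the term `p = 1`
      have h1 : ∑ e : Perm (Fin (m + 1)),
          (if Valid (Perm.decomposeFin.symm (((0 : Fin (m + 1)).succ : Fin (m + 2)), e)) then
            ((Perm.sign (Perm.decomposeFin.symm (((0 : Fin (m + 1)).succ : Fin (m + 2)), e)) : ℤ) : ℂ) *
              Ψ (dimSet (muK (Perm.decomposeFin.symm (((0 : Fin (m + 1)).succ : Fin (m + 2)), e))))
            else 0) =
          - ∑ D ∈ (Finset.Ico 1 (m + 1)).powerset,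
            (-1 : ℂ) ^ (m + 1 - 1 - D.card) * Ψ (D.image (· + 1)) := by
        rw [← ih (fun D => Ψ (D.image (· + 1))), ← Finset.sum_neg_distrib]
        refine Finset.sum_congr rfl fun e _ => ?_
        have h01 : ((0 : Fin (m + 1)).succ : Fin (m + 2)) = 1 := rfl
        have hv : Valid (Perm.decomposeFin.symm (((0 : Fin (m + 1)).succ : Fin (m + 2)), e)) ↔
            Valid e := by
          rw [valid_decomposeFin_symm]; simp
        by_cases he : Valid e
        · rw [if_pos he, if_pos (hv.2 he), Perm.decomposeFin.symm_sign,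
            if_neg (Fin.succ_ne_zero _), h01, muK_decompose_one e he, dimSet_cons_zero e he]
          push_cast
          ring
        · rw [if_neg he, if_neg (fun h => he (hv.1 h)), neg_zero]
      rw [h0, h1]
      -- the right-hand side
      have hnotin : (1 : ℕ) ∉ (Finset.Ico 1 (m + 1)).image (· + 1) := by
        simp only [Finset.mem_image, Finset.mem_Ico, not_exists, not_and]
        intro d hd; omega
      rw [Ico_succ_succ, Finset.sum_powerset_insert hnotin, Finset.powerset_image,
        Finset.sum_image, Finset.sum_image]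
      · have hinj : Function.Injective (fun x : ℕ => x + 1) := fun a b h => by simpa using h
        have hcard : ∀ D ∈ (Finset.Ico 1 (m + 1)).powerset, D.card ≤ m := by
          intro D hD
          have := Finset.card_le_card (Finset.mem_powerset.1 hD)
          simpa using this
        rw [add_comm, ← Finset.sum_neg_distrib]
        congr 1
        · refine Finset.sum_congr rfl fun D hD => ?_
          have hc := hcard D hD
          rw [Finset.card_image_of_injective _ hinj]
          have e1 : m + 1 + 1 - 1 - D.card = (m + 1 - 1 - D.card) + 1 := by omega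
          rw [e1, pow_succ]
          ring
        · refine Finset.sum_congr rfl fun D hD => ?_
          have hc := hcard D hD
          have hni : (1 : ℕ) ∉ D.image (· + 1) := by
            simp only [Finset.mem_image, not_exists, not_and]
            intro d hd
            have := Finset.mem_Ico.1 (Finset.mem_powerset.1 hD hd)
            omega
          rw [Finset.card_insert_of_notMem hni, Finset.card_image_of_injective _ hinj]
          have e1 : m + 1 + 1 - 1 - (D.card + 1) = m + 1 - 1 - D.card := by omega
          rw [e1]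
      · intro D _ D' _ h
        have hinj : Function.Injective (fun x : ℕ => x + 1) := fun a b h => by simpa using h
        exact Finset.image_injective hinj h
      · intro D _ D' _ h
        have hinj : Function.Injective (fun x : ℕ => x + 1) := fun a b h => by simpa using h
        exact Finset.image_injective hinj h

end KappaSum

end Cfsg.Agent.S2425L
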