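import Mathlib
import Cfsg.Prelude.Def_LinearParabolics
import Cfsg.Agent.Lib.S2425.Kappa
import Cfsg.Agent.Lib.S2425.Flags
import Cfsg.Agent.Lib.S2425.InvtMu

/-!
Values of the partition-indexed class function of `GL_n(F)` for the partition into ones (the
Steinberg character) at elements of order prime to the characteristic.
-/

set_option autoImplicit false
set_option linter.style.haveILetI false

namespace Cfsg.Agent.S2425L

open Finset Equiv Module IncidenceAlgebra
open scoped MatrixGroups

section Expand

variable {n : ℕ} {F : Type*} [Field F]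

theorem compLabel_eq (μ : Fin n → ℕ) (i : Fin n) :
    compLabel μ i = (univ.filter fun t : Fin n => psum μ t ≤ i.val).card := rfl

theorem compLabel_lt_iff (μ : Fin n → ℕ) (i j : Fin n) :
    compLabel μ j < compLabel μ i ↔ ∃ t : Fin n, j.val < psum μ t ∧ psum μ t ≤ i.val := by
  rw [compLabel_eq, compLabel_eq]
  constructor
  · intro h
    by_contra hne
    push Not at hne
    have hsub : (univ.filter fun t : Fin n => psum μ t ≤ i.val) ⊆
        (univ.filter fun t : Fin n => psum μ t ≤ j.val) := by
      intro t ht
      rw [Finset.mem_filter] at ht ⊢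
      refine ⟨ht.1, ?_⟩
      by_contra hlt
      exact absurd ht.2 (not_le.2 (hne t (not_le.1 hlt)))
    exact absurd (Finset.card_le_card hsub) (not_le.2 h)
  · rintro ⟨t, h1, h2⟩
    apply Finset.card_lt_card
    refine ⟨fun u hu => ?_, fun hsub => ?_⟩
    · rw [Finset.mem_filter] at hu ⊢
      exact ⟨hu.1, by omega⟩
    · have : t ∈ univ.filter fun t : Fin n => psum μ t ≤ j.val :=
        hsub (by rw [Finset.mem_filter]; exact ⟨Finset.mem_univ _, h2⟩)
      rw [Finset.mem_filter] at this
      omega

/-- The block upper triangular group of a composition in terms of its dimension set. -/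
theorem mem_parabolicGL_iff_dimSet (μ : Fin n → ℕ) (g : GL (Fin n) F) :
    g ∈ parabolicGL n F μ ↔ ∀ d ∈ dimSet μ, ∀ i j : Fin n, j.val < d → d ≤ i.val →
      (g : Matrix (Fin n) (Fin n) F) i j = 0 := by
  constructor
  · intro h d hd i j hj hi
    obtain ⟨⟨t, rfl⟩, -, -⟩ := mem_dimSet.1 hd
    exact h ((compLabel_lt_iff μ i j).2 ⟨t, hj, hi⟩)
  · intro h i j hij
    obtain ⟨t, h1, h2⟩ := (compLabel_lt_iff μ i j).1 hij
    refine h (psum μ t) (mem_dimSet.2 ⟨⟨t, rfl⟩, by omega, ?_⟩) i j h1 h2
    have := i.isLt
    omega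

/-- The number of `x`-stable flags of type `D`. -/
noncomputable def flagCount (x : GL (Fin n) F) (D : Finset ℕ) : ℂ :=
  (Nat.card {S : SubSet n F // IsFlag D S ∧ ∀ W ∈ (S : Set (Submodule F (Fin n → F))),
    W ∈ Module.End.invtSubmodule (Matrix.toLin' (x : Matrix (Fin n) (Fin n) F))} : ℂ)

/-- The partition-indexed class function for the partition into ones as an alternating sum of
numbers of stable flags. -/
theorem unipotent_one_expand (x : GL (Fin n) F) :
    unipotentCharacterGL n F (fun _ => 1) x =
      ∑ D ∈ (Finset.Ico 1 n).powerset, (-1 : ℂ) ^ (n - 1 - D.card) * flagCount x D := by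
  rw [← kappa_sum n (flagCount x)]
  unfold unipotentCharacterGL
  refine Finset.sum_congr rfl fun κ _ => ?_
  have hterm : fixedPointCharacter (parabolicGL n F fun i => (fun _ => 1) i + i.val - (κ i).val) x =
      flagCount x (dimSet (muK κ)) := by
    unfold fixedPointCharacter flagCount
    congr 1
    refine card_fixedBy_flags (D := dimSet (muK κ)) ?_ _ ?_ x
    · intro d hd
      have := (mem_dimSet.1 hd).2.2
      omega
    · intro g
      exact mem_parabolicGL_iff_dimSet (muK κ) g
  by_cases h : Valid κ
  · rw [if_pos h, if_pos (show ∀ i : Fin n, (κ i).val ≤ (fun _ => 1) i + i.val from h), hterm]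
  · rw [if_neg h, if_neg (show ¬ ∀ i : Fin n, (κ i).val ≤ (fun _ => 1) i + i.val from h)]

end Expand

section Translate

variable {n : ℕ} {F : Type*} [Field F] [Finite F]

/-- The alternating sum of the numbers of stable flags is minus the Moebius number of the lattice
of invariant subspaces. -/
theorem alt_flagCount (hn : 1 ≤ n) (x : GL (Fin n) F) :
    ∑ D ∈ (Finset.Ico 1 n).powerset, (-1 : ℂ) ^ D.card * flagCount x D =
      - ((muNum (Module.End.invtSubmodule
          (Matrix.toLin' (x : Matrix (Fin n) (Fin n) F))) : ℤ) : ℂ) := by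
  classical
  set T : Module.End F (Fin n → F) := Matrix.toLin' (x : Matrix (Fin n) (Fin n) F) with hT
  letI : Fintype T.invtSubmodule := Fintype.ofFinite _
  letI : LocallyFiniteOrder T.invtSubmodule := Fintype.toLocallyFiniteOrder
  let dimL : T.invtSubmodule → ℕ := fun W => finrank F W.1
  have hne : (⊥ : T.invtSubmodule) < ⊤ := by
    rw [bot_lt_iff_ne_bot]
    intro h
    have h1 : ((⊤ : T.invtSubmodule) : Submodule F (Fin n → F)) = ⊥ := by rw [h]; rfl
    have h2 : ((⊤ : T.invtSubmodule) : Submodule F (Fin n → F)) = ⊤ := rfl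
    rw [h2] at h1
    have h3 := congrArg (fun W : Submodule F (Fin n → F) => finrank F W) h1
    simp only [finrank_top, finrank_bot, Module.finrank_fin_fun] at h3
    omega
  have hH := hall (⊥ : T.invtSubmodule) ⊤ hne
  rw [muNum_eq] at hH
  -- dimension sets of chains
  have hdimIoo : ∀ W : T.invtSubmodule, W ∈ Finset.Ioo (⊥ : T.invtSubmodule) ⊤ ↔
      1 ≤ dimL W ∧ dimL W < n := by
    intro W
    rw [Finset.mem_Ioo, bot_lt_iff_ne_bot, lt_top_iff_ne_top]
    constructor
    · rintro ⟨h1, h2⟩
      constructor
      · by_contra h0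
        have : finrank F W.1 = 0 := by simp only [dimL] at h0; omega
        apply h1
        apply Subtype.ext
        exact Submodule.finrank_eq_zero.1 this
      · have hle : finrank F W.1 ≤ n := by
          have := Submodule.finrank_le W.1
          simpa using this
        by_contra hlt
        have : finrank F W.1 = finrank F (Fin n → F) := by
          simp only [dimL] at hlt
          rw [Module.finrank_fin_fun]; omega
        apply h2
        apply Subtype.ext
        exact Submodule.eq_top_of_finrank_eq this
    · rintro ⟨h1, h2⟩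
      constructor
      · intro h
        have : finrank F W.1 = 0 := by rw [h]; exact finrank_bot F (Fin n → F)
        simp only [dimL] at h1; omega
      · intro h
        have : finrank F W.1 = n := by
          rw [h]
          change finrank F (⊤ : Submodule F (Fin n → F)) = n
          rw [finrank_top, Module.finrank_fin_fun]
        simp only [dimL] at h2; omega
  have hinj : ∀ c ∈ chainsIoo (⊥ : T.invtSubmodule) ⊤, Set.InjOn dimL (c : Set T.invtSubmodule) := by
    intro c hc W hW W' hW' h
    rw [mem_chainsIoo] at hc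
    by_contra hne'
    rcases hc.2 hW hW' hne' with h1 | h1
    · exact hne' (Subtype.ext (Submodule.eq_of_le_of_finrank_eq h1 h))
    · exact hne' (Subtype.ext (Submodule.eq_of_le_of_finrank_eq h1 h.symm).symm)
  have hmaps : ∀ c ∈ chainsIoo (⊥ : T.invtSubmodule) ⊤,
      c.image dimL ∈ (Finset.Ico 1 n).powerset := by
    intro c hc
    rw [Finset.mem_powerset]
    intro d hd
    obtain ⟨W, hW, rfl⟩ := Finset.mem_image.1 hd
    rw [mem_chainsIoo] at hc
    exact Finset.mem_Ico.2 ((hdimIoo W).1 (hc.1 hW))
  -- fibrewise decomposition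
  have hfib := Finset.sum_fiberwise_of_maps_to (g := fun c : Finset T.invtSubmodule => c.image dimL)
    hmaps (fun c => (-1 : ℤ) ^ c.card)
  rw [← hfib] at hH
  have hcast : (-((muNum T.invtSubmodule : ℤ) : ℂ)) =
      ((∑ D ∈ (Finset.Ico 1 n).powerset, ∑ c ∈ (chainsIoo (⊥ : T.invtSubmodule) ⊤).filter
        (fun c => c.image dimL = D), (-1 : ℤ) ^ c.card : ℤ) : ℂ) := by
    rw [hH]; push_cast; ring
  rw [hcast]
  push_cast
  refine Finset.sum_congr rfl fun D hD => ?_
  have hDsub : D ⊆ Finset.Ico 1 n := Finset.mem_powerset.1 hD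
  -- all chains in the fibre have cardinality `D.card`
  have hcardc : ∀ c ∈ (chainsIoo (⊥ : T.invtSubmodule) ⊤).filter (fun c => c.image dimL = D),
      ((-1 : ℂ) ^ c.card) = (-1 : ℂ) ^ D.card := by
    intro c hc
    rw [Finset.mem_filter] at hc
    rw [← hc.2, Finset.card_image_of_injOn (hinj c hc.1)]
  rw [Finset.sum_congr rfl hcardc, Finset.sum_const, nsmul_eq_mul, mul_comm]
  congr 1
  -- the translation between flags and chains
  unfold flagCount
  rw [← Nat.card_eq_finsetCard]
  congr 1
  refine Nat.card_congr
    { toFun := fun S => ⟨Finset.univ.filter (fun W : T.invtSubmodule =>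
          W.1 ∈ (S.1 : Set (Submodule F (Fin n → F)))), ?_⟩
      invFun := fun c => ⟨(Subtype.val '' (c.1 : Set T.invtSubmodule) : Set _), ?_⟩
      left_inv := ?_
      right_inv := ?_ }
  · -- the chain of a flag
    obtain ⟨S, ⟨hchain, hdims⟩, hstab⟩ := S
    rw [Finset.mem_filter, mem_chainsIoo]
    have hmemD : ∀ W : T.invtSubmodule, W.1 ∈ (S : Set (Submodule F (Fin n → F))) →
        dimL W ∈ D := by
      intro W hW
      have : finrank F W.1 ∈ (fun W : Submodule F (Fin n → F) => finrank F W) ''
          (S : Set (Submodule F (Fin n → F))) := ⟨W.1, hW, rfl⟩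
      rw [hdims] at this
      exact this
    refine ⟨⟨fun W hW => ?_, ?_⟩, ?_⟩
    · rw [Finset.mem_filter] at hW
      exact (hdimIoo W).2 (by
        have := Finset.mem_Ico.1 (hDsub (hmemD W hW.2))
        exact this)
    · intro W hW W' hW' hne'
      rw [Finset.mem_coe, Finset.mem_filter] at hW hW'
      have : W.1 ≠ W'.1 := fun h => hne' (Subtype.ext h)
      exact hchain hW.2 hW'.2 this
    · ext d
      rw [Finset.mem_image]
      constructor
      · rintro ⟨W, hW, rfl⟩
        rw [Finset.mem_filter] at hW
        exact hmemD W hW.2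
      · intro hd
        have : d ∈ (fun W : Submodule F (Fin n → F) => finrank F W) ''
            (S : Set (Submodule F (Fin n → F))) := by rw [hdims]; exact hd
        obtain ⟨W, hW, rfl⟩ := this
        exact ⟨⟨W, hstab W hW⟩, by rw [Finset.mem_filter]; exact ⟨Finset.mem_univ _, hW⟩, rfl⟩
  · -- the flag of a chain
    have hc := c.2
    rw [Finset.mem_filter, mem_chainsIoo] at hc
    refine ⟨⟨?_, ?_⟩, ?_⟩
    · rintro _ ⟨W, hW, rfl⟩ _ ⟨W', hW', rfl⟩ hne'
      have : W ≠ W' := fun h => hne' (by rw [h])
      exact hc.1.2 hW hW' this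
    · ext d
      have hd := Finset.ext_iff.1 hc.2 d
      rw [Finset.mem_image] at hd
      simp only [Set.mem_image, Finset.mem_coe]
      rw [← hd]
      constructor
      · rintro ⟨_, ⟨W, hW, rfl⟩, rfl⟩
        exact ⟨W, hW, rfl⟩
      · rintro ⟨W, hW, rfl⟩
        exact ⟨W.1, ⟨W, hW, rfl⟩, rfl⟩
    · rintro _ ⟨W, _, rfl⟩
      exact W.2
  · rintro ⟨S, ⟨hchain, hdims⟩, hstab⟩
    apply Subtype.ext
    ext W
    simp only [Finset.coe_filter, Finset.mem_univ, true_and, Set.mem_image, Set.mem_ofPred_eq]
    constructor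
    · rintro ⟨W', hW', rfl⟩; exact hW'
    · intro hW; exact ⟨⟨W, hstab W hW⟩, hW, rfl⟩
  · rintro ⟨c, hc⟩
    apply Subtype.ext
    ext W
    simp only [Finset.mem_filter, Finset.mem_univ, true_and, Set.mem_image, Finset.mem_coe]
    constructor
    · rintro ⟨W', hW', h⟩
      rw [← Subtype.ext h]; exact hW'
    · intro hW; exact ⟨W, hW, rfl⟩

end Translate

section Final

open Polynomial UniqueFactorizationMonoid

variable {n : ℕ} {F : Type*} [Field F]

theorem flagCount_empty (x : GL (Fin n) F) : flagCount x ∅ = 1 := by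
  unfold flagCount
  have : Nat.card {S : SubSet n F // IsFlag ∅ S ∧ ∀ W ∈ (S : Set (Submodule F (Fin n → F))),
      W ∈ Module.End.invtSubmodule (Matrix.toLin' (x : Matrix (Fin n) (Fin n) F))} = 1 := by
    rw [Nat.card_eq_one_iff_unique]
    constructor
    · refine ⟨fun a b => ?_⟩
      apply Subtype.ext
      have ha := a.2.1.2
      have hb := b.2.1.2
      rw [Finset.coe_empty, Set.image_eq_empty] at ha hb
      exact ha.trans hb.symm
    · refine ⟨⟨(∅ : Set (Submodule F (Fin n → F))), ⟨?_, ?_⟩, ?_⟩⟩
      · exact Set.Subsingleton.isChain Set.subsingleton_empty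
      · simp
      · intro W hW; exact absurd hW (Set.notMem_empty W)
  rw [this]; simp

variable [Finite F] [DecidableEq F]

/-- The value of the alternating sum at an element of order prime to the characteristic, in terms
of `Rfun`. -/
theorem unipotent_one_eq_Rfun (p : ℕ) [Fact p.Prime] [CharP F p] (x : GL (Fin n) F)
    (hx : (orderOf x).Coprime p) :
    unipotentCharacterGL n F (fun _ => 1) x =
      (-1 : ℂ) ^ n * ((Rfun (Nat.card F) (x : Matrix (Fin n) (Fin n) F).charpoly : ℤ) : ℂ) := by
  rw [unipotent_one_expand]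
  rcases Nat.eq_zero_or_pos n with rfl | hn
  · have hch : (x : Matrix (Fin 0) (Fin 0) F).charpoly = 1 := Matrix.charpoly_isEmpty
    rw [hch, Rfun_one]
    simp [flagCount_empty]
  · -- the Moebius number
    set T : Module.End F (Fin n → F) := Matrix.toLin' (x : Matrix (Fin n) (Fin n) F) with hT
    have hN : ¬ p ∣ orderOf x := by
      have hp : p.Prime := Fact.out
      intro h
      have := Nat.Coprime.eq_one_of_dvd hx.symm h
      exact hp.one_lt.ne' this
    have hNF : ((orderOf x : ℕ) : F) ≠ 0 := by
      rw [Ne, CharP.cast_eq_zero_iff F p]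
      exact hN
    have hsq : Squarefree (X ^ orderOf x - C (1 : F)) :=
      (Polynomial.separable_X_pow_sub_C (1 : F) hNF one_ne_zero).squarefree
    have hTpow : aeval T (X ^ orderOf x - C (1 : F)) = 0 := by
      rw [map_sub, map_pow, aeval_X, aeval_C, map_one, hT, ← Matrix.toLin'_pow]
      have h1 : (x : Matrix (Fin n) (Fin n) F) ^ orderOf x = 1 := by
        rw [← Units.val_pow_eq_pow_val, pow_orderOf_eq_one, Units.val_one]
      rw [h1, Matrix.toLin'_one]
      exact sub_self _
    have hmu := muNum_invt _ (X ^ orderOf x - C (1 : F)) hsq rfl (Fin n → F) T hTpow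
    rw [hT, Matrix.charpoly_toLin'] at hmu
    have halt := alt_flagCount hn x
    rw [hmu] at halt
    -- signs
    have hsign : ∀ D ∈ (Finset.Ico 1 n).powerset,
        (-1 : ℂ) ^ (n - 1 - D.card) * flagCount x D =
          (-1 : ℂ) ^ (n - 1) * ((-1 : ℂ) ^ D.card * flagCount x D) := by
      intro D hD
      have hc : D.card ≤ n - 1 := by
        have := Finset.card_le_card (Finset.mem_powerset.1 hD)
        simpa using this
      rw [← mul_assoc, ← pow_add]
      congr 1
      have e : n - 1 + D.card = (n - 1 - D.card) + 2 * D.card := by omega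
      rw [e, pow_add, pow_mul]
      simp
    rw [Finset.sum_congr rfl hsign, ← Finset.mul_sum, halt]
    have e2 : (-1 : ℂ) ^ n = (-1) ^ (n - 1) * (-1) := by
      rw [← pow_succ]
      congr 1
      omega
    rw [e2]
    ring

end Final

section Arith

open Polynomial UniqueFactorizationMonoid

variable {F : Type*} [Field F] [DecidableEq F]

theorem natDegree_eq_sum_count {P : F[X]} (hP : P.Monic) :
    P.natDegree = ∑ f ∈ (normalizedFactors P).toFinset,
      (normalizedFactors P).count f * f.natDegree := by
  have hprod := prod_normalizedFactors_eq hP.ne_zero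
  rw [hP.normalize_eq_self] at hprod
  have hmonic : ∀ f ∈ normalizedFactors P, f.Monic := by
    intro f hf
    have := normalize_normalized_factor f hf
    rw [← this]
    exact Polynomial.monic_normalize (irreducible_of_normalized_factor f hf).ne_zero
  conv_lhs => rw [← hprod]
  rw [Polynomial.natDegree_multiset_prod_of_monic _ hmonic, Finset.sum_multiset_map_count]
  simp

theorem neg_one_pow_mul_Rfun (q : ℕ) {P : F[X]} (hP : P.Monic) :
    (-1 : ℂ) ^ P.natDegree * ((Rfun q P : ℤ) : ℂ) =
      ∏ f ∈ (normalizedFactors P).toFinset,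
        ((-1 : ℂ) ^ ((f.natDegree - 1) * (normalizedFactors P).count f) *
          (q : ℂ) ^ (f.natDegree * (normalizedFactors P).count f *
            ((normalizedFactors P).count f - 1) / 2)) := by
  rw [natDegree_eq_sum_count hP, ← Finset.prod_pow_eq_pow_sum]
  unfold Rfun
  push_cast
  rw [← Finset.prod_mul_distrib]
  refine Finset.prod_congr rfl fun f hf => ?_
  rw [Multiset.mem_toFinset] at hf
  have hdeg : 1 ≤ f.natDegree := (irreducible_of_normalized_factor f hf).natDegree_pos
  set c := (normalizedFactors P).count f with hc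
  set d := f.natDegree with hd
  have e1 : (-1 : ℂ) ^ (c * d) * (-1 : ℂ) ^ c = (-1 : ℂ) ^ ((d - 1) * c) := by
    rw [← pow_add]
    have : c * d + c = (d - 1) * c + 2 * c := by
      obtain ⟨d', hd'⟩ : ∃ d', d = d' + 1 := ⟨d - 1, by omega⟩
      rw [hd', Nat.add_sub_cancel]
      ring
    rw [this, pow_add, pow_mul (-1 : ℂ) 2 c]
    simp
  have e2 : d * c * (c - 1) / 2 = d * (c.choose 2) := by
    rw [Nat.choose_two_right, mul_assoc]
    exact Nat.mul_div_assoc d (Nat.even_mul_pred_self c).two_dvd
  rw [e2, ← e1, pow_mul]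
  ring

end Arith

section Result

open Polynomial UniqueFactorizationMonoid

/-- Values of the Steinberg character of `GL_n(q)` at elements of order prime to the
characteristic. -/
theorem steinberg_values {F : Type*} [Field F] [Fintype F] [DecidableEq F] {q : ℕ}
    (hq : Fintype.card F = q) (p : ℕ) [Fact p.Prime] [CharP F p] {n : ℕ} (x : GL (Fin n) F)
    (hx : (orderOf x).Coprime p) :
    Cfsg.unipotentCharacterGL n F (fun _ => 1) x =
      ∏ f ∈ (normalizedFactors (x : Matrix (Fin n) (Fin n) F).charpoly).toFinset,
        ((-1 : ℂ) ^ ((f.natDegree - 1) *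
            (normalizedFactors (x : Matrix (Fin n) (Fin n) F).charpoly).count f) *
          (q : ℂ) ^ (f.natDegree *
            (normalizedFactors (x : Matrix (Fin n) (Fin n) F).charpoly).count f *
            ((normalizedFactors (x : Matrix (Fin n) (Fin n) F).charpoly).count f - 1) / 2)) := by
  rw [unipotent_one_eq_Rfun p x hx]
  have hmon : (x : Matrix (Fin n) (Fin n) F).charpoly.Monic := Matrix.charpoly_monic _
  have hdeg : (x : Matrix (Fin n) (Fin n) F).charpoly.natDegree = n := by
    rw [Matrix.charpoly_natDegree_eq_dim, Fintype.card_fin]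
  have hcard : Nat.card F = q := by rw [Nat.card_eq_fintype_card, hq]
  rw [hcard]
  have := neg_one_pow_mul_Rfun q hmon
  rw [hdeg] at this
  exact this

end Result

end Cfsg.Agent.S2425L
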